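import Cfsg.Agent.Lib.RuRec.Defs

/-!
The base.
-/

set_option autoImplicit false
set_option Elab.async false
set_option maxRecDepth 30000

namespace CfsgLib.RuRec

open CfsgLib.RuGroup CfsgLib.CosetEnum

theorem base_ok : baseOK = true := by decide +kernel

theorem step0 : stepOK 0 = true := by decide +kernel
theorem step1 : stepOK 1 = true := by decide +kernel
theorem step2 : stepOK 2 = true := by decide +kernel
theorem step3 : stepOK 3 = true := by decide +kernel
theorem step4 : stepOK 4 = true := by decide +kernel
theorem step5 : stepOK 5 = true := by decide +kernel
theorem step6 : stepOK 6 = true := by decide +kernel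
theorem step7 : stepOK 7 = true := by decide +kernel
theorem step8 : stepOK 8 = true := by decide +kernel
theorem step9 : stepOK 9 = true := by decide +kernel
theorem step10 : stepOK 10 = true := by decide +kernel
theorem step11 : stepOK 11 = true := by decide +kernel
theorem step12 : stepOK 12 = true := by decide +kernel
theorem step13 : stepOK 13 = true := by decide +kernel
theorem step14 : stepOK 14 = true := by decide +kernel
theorem step15 : stepOK 15 = true := by decide +kernel
theorem step16 : stepOK 16 = true := by decide +kernel
theorem step17 : stepOK 17 = true := by decide +kernel
theorem step18 : stepOK 18 = true := by decide +kernel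

theorem points_ok : allUp pointOK 12 0 = true := by decide +kernel

end CfsgLib.RuRec
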