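import Cfsg.Agent.Lib.RuRec.Sub
import Cfsg.Agent.Lib.RuRec.CheckBase

/-!
Automorphisms of the graph fixing an edge and normalizing its stabilizer.
-/

set_option autoImplicit false
set_option maxRecDepth 20000

namespace CfsgLib.RuRec

open CfsgLib.CosetEnum CfsgLib.RuGroup MulAction
open scoped Pointwise

attribute [local irreducible] half0Mask ssMask rows pImg lineImg baseL

/-- the automorphisms of the graph -/
def AutR0 : Subgroup (Equiv.Perm Pt) where
  carrier := {g | ∀ x y, R0 (g x) (g y) ↔ R0 x y}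
  one_mem' := fun x y => Iff.rfl
  mul_mem' := fun {g h} hg hh x y => (hg (h x) (h y)).trans (hh x y)
  inv_mem' := fun {g} hg x y => by
    refine (hg (g⁻¹ x) (g⁻¹ y)).symm.trans ?_
    simp

/-- the elements of the stabilizer as permutations -/
noncomputable def sig : MM →* Equiv.Perm Pt := toPermHom MM Pt

theorem sig_apply (m : MM) (x : Pt) : sig m x = m • x := rfl

theorem sig_mem (m : MM) : sig m ∈ AutR0 := fun _ _ => R0_smul (m : GG)

/-- the stabilizer of an edge, as permutations -/
noncomputable def WW : Subgroup (Equiv.Perm Pt) := (stabilizer MM d0).map sig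

theorem mem_WW {p : Equiv.Perm Pt} : p ∈ WW ↔ ∃ m : MM, m • d0 = d0 ∧ sig m = p := by
  simp [WW, Subgroup.mem_map, mem_stabilizer_iff]

/-- a base point -/
noncomputable def bp (i : ℕ) : Pt :=
  if h : basePts.getD i 0 < 4060 then ⟨basePts.getD i 0, h⟩ else 0

theorem base_facts : basePts.length = 22 ∧ basePts.Nodup ∧ (∀ i < 22, basePts.getD i 0 < 4060) ∧
    (∀ i < 22, basePos.getD i 0 < rows.length ∧ rowPts.getD (basePos.getD i 0) 0 = basePts.getD i 1) ∧
    basePts.getD 0 1 = 0 ∧ basePts.getD 1 0 = 65 ∧ basePts.getD 2 0 = 2 := by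
  have h := base_ok
  simp only [baseOK, Bool.and_eq_true, decide_eq_true_eq, List.all_eq_true, List.mem_range, Nat.blt_eq] at h
  obtain ⟨⟨⟨⟨⟨⟨h1, -⟩, h2⟩, h3⟩, h4⟩, h5⟩, hall⟩ := h
  exact ⟨Nat.eq_of_beq_eq_true h1, h2, fun i hi => (hall i hi).2,
    fun i hi => ⟨(hall i hi).1.1, Nat.eq_of_beq_eq_true (hall i hi).1.2⟩,
    Nat.eq_of_beq_eq_true h3, Nat.eq_of_beq_eq_true h4, Nat.eq_of_beq_eq_true h5⟩

theorem bp_val {i : ℕ} (hi : i < 22) : (bp i : ℕ) = basePts.getD i 0 := by
  rw [bp, dif_pos (base_facts.2.2.1 i hi)]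

theorem bp_first : bp 0 = 0 ∧ bp 1 = d0 ∧ bp 2 = q2 := by
  obtain ⟨h0, -, -, -, h1, h2, h3⟩ := base_facts
  refine ⟨Fin.ext ((bp_val (by norm_num)).trans ?_), Fin.ext ((bp_val (by norm_num)).trans h2),
    Fin.ext ((bp_val (by norm_num)).trans h3)⟩
  rw [List.getD_eq_getElem _ _ (by omega)] at h1 ⊢
  exact h1

theorem bp_inj {i j : ℕ} (hi : i < 22) (hj : j < 22) (h : bp i = bp j) : i = j := by
  obtain ⟨hl, hn, -⟩ := base_facts
  have e := congrArg Fin.val h
  rw [bp_val hi, bp_val hj, List.getD_eq_getElem _ _ (by omega), List.getD_eq_getElem _ _ (by omega)] at e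
  exact (hn.getElem_inj_iff).1 e

theorem row_base {i : ℕ} (hi : i < 22) (y : Pt) :
    (rows.getD (basePos.getD i 0) 0).testBit y = true ↔ R0 (bp i) y := by
  obtain ⟨hl, -, -, hp, -⟩ := base_facts
  obtain ⟨h1, h2⟩ := hp i hi
  refine row_spec _ h1 (bp i) ?_ y
  rw [bp_val hi, List.getD_eq_getElem _ _ (show i < basePts.length by omega)]
  rw [List.getD_eq_getElem _ _ (show i < basePts.length by omega)] at h2
  exact h2.symm

theorem testBit_fullM {v : ℕ} (hv : v < 4060) : fullM.testBit v = true := by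
  rw [fullM, Nat.testBit_two_pow_sub_one, decide_eq_true_eq]; exact hv

theorem cell_spec (t : ℕ) (y : Pt) : ∀ l : List (ℕ × ℕ), (cellMask l t).testBit y = true ↔
    ∀ q ∈ l, q.2.testBit y = q.2.testBit t ∧ q.1 ≠ y
  | [] => by simp [cellMask, testBit_fullM y.2]
  | (b, r) :: l => by
    have e : ((if r.testBit t then r else fullM ^^^ r).testBit y = true) ↔ r.testBit y = r.testBit t := by
      by_cases ht : r.testBit t = true
      · rw [if_pos ht, ht]
      · rw [if_neg ht, Nat.testBit_xor, testBit_fullM y.2, Bool.eq_false_iff.2 ht]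
        cases r.testBit y <;> simp
    rw [cellMask, Nat.testBit_and, Bool.and_eq_true, Nat.testBit_and, Bool.and_eq_true, cell_spec t y l, e,
      Nat.testBit_xor, testBit_fullM y.2, Bool.true_xor, Bool.not_eq_true', Nat.testBit_two_pow,
      decide_eq_false_iff_not, List.forall_mem_cons]
    tauto

theorem mem_take_base {k : ℕ} (hk : k ≤ 22) {q : ℕ × ℕ} :
    q ∈ baseL.take k ↔ ∃ i < k, q = (basePts.getD i 0, rows.getD (basePos.getD i 0) 0) := by
  unfold baseL
  rw [← List.map_take, List.take_range, base_facts.1, Nat.min_eq_left hk]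
  simp only [List.mem_map, List.mem_range]
  exact ⟨fun ⟨i, hi, e⟩ => ⟨i, hi, e.symm⟩, fun ⟨i, hi, e⟩ => ⟨i, hi, e.symm⟩⟩

theorem cell_base {k : ℕ} (hk : k ≤ 22) (t y : Pt) : (cellMask (baseL.take k) t).testBit y = true ↔
    ∀ i < k, (R0 (bp i) y ↔ R0 (bp i) t) ∧ bp i ≠ y := by
  rw [cell_spec]
  constructor
  · intro h i hi
    obtain ⟨h1, h2⟩ := h _ ((mem_take_base hk).2 ⟨i, hi, rfl⟩)
    refine ⟨?_, fun e => h2 (by rw [← bp_val (by omega : i < 22), e])⟩
    rw [← row_base (by omega : i < 22), ← row_base (by omega : i < 22)]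
    exact Bool.eq_iff_iff.1 h1
  · intro h q hq
    obtain ⟨i, hi, rfl⟩ := (mem_take_base hk).1 hq
    obtain ⟨h1, h2⟩ := h i hi
    refine ⟨Bool.eq_iff_iff.2 (by rw [row_base (by omega : i < 22), row_base (by omega : i < 22)]; exact h1),
      fun e => h2 (Fin.ext ?_)⟩
    rw [bp_val (by omega : i < 22)]; exact e

theorem cell_inv {g : Equiv.Perm Pt} (hg : g ∈ AutR0) {k : ℕ} (hk : k ≤ 22) (hfix : ∀ i < k, g (bp i) = bp i)
    (t y : Pt) : (cellMask (baseL.take k) t).testBit (g y : ℕ) = true ↔
      (cellMask (baseL.take k) t).testBit y = true := by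
  rw [cell_base hk, cell_base hk]
  refine forall_congr' fun i => forall_congr' fun hi => ?_
  rw [show R0 (bp i) (g y) ↔ R0 (bp i) y from ⟨fun h => (hg _ _).1 (by rwa [hfix i hi]), fun h => by
    have := (hg (bp i) y).2 h; rwa [hfix i hi] at this⟩]
  refine and_congr Iff.rfl (not_congr ?_)
  conv_lhs => rw [← hfix i hi]
  exact g.injective.eq_iff

/-- the elements fixing the first points of the base -/
def Fix (k : ℕ) (m : MM) : Prop := ∀ i < k, m • bp i = bp i

theorem Fix.mul {k : ℕ} {m n : MM} (h : Fix k m) (h' : Fix k n) : Fix k (m * n) := fun i hi => by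
  rw [mul_smul, h' i hi, h i hi]

theorem grp_spec {k : ℕ} (hk3 : 3 ≤ k) (hk : k ≤ 22) (m : MM) :
    Fix k m ↔ ∃ u ∈ grpAt k, SL u ∧ md u = m := by
  obtain ⟨-, hu, -, hu'⟩ := trans_facts
  have hmem : ∀ (u : List ℕ), u ∈ wW → (((basePts.take k).all fun b => Nat.beq (pWord u b) b) = true ↔ Fix k (md u)) := by
    intro u huw
    simp only [List.all_eq_true, List.mem_iff_getElem, List.length_take, base_facts.1, Nat.min_eq_left hk]
    constructor
    · intro h i hi
      refine Fin.ext ((md_smul (hu u huw).1 _).trans (Nat.eq_of_beq_eq_true ?_))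
      rw [bp_val (by omega)]
      exact h _ ⟨i, hi, List.getElem_take.trans (List.getD_eq_getElem _ _ _).symm⟩
    · rintro h b ⟨i, hi, rfl⟩
      rw [List.getElem_take, show basePts[i]'(by rw [base_facts.1]; omega) = ((bp i : Pt) : ℕ) from
          ((bp_val (by omega)).trans (List.getD_eq_getElem _ _ _)).symm,
        ← md_smul (hu u huw).1, h i hi]
      exact Nat.beq_refl _
  constructor
  · intro h
    have h65 : m • d0 = d0 := by rw [← bp_first.2.1]; exact h 1 (by omega)
    have h2 : m • q2 = q2 := by rw [← bp_first.2.2]; exact h 2 (by omega)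
    obtain ⟨u, huw, e⟩ := hu' m h65 h2
    obtain ⟨sul, u65, u2⟩ := hu u huw
    have hmu : m = md u := by
      refine (inv_mul_eq_one.1 (eq_one_of_four (m := (md u)⁻¹ * m) ?_ ?_ ?_)).symm
      · rw [mul_smul, h65, inv_smul_eq_iff, u65]
      · rw [mul_smul, h2, inv_smul_eq_iff, u2]
      · rw [mul_smul, inv_smul_eq_iff]
        exact Fin.ext (e.symm.trans (md_smul sul p1).symm)
    exact ⟨u, List.mem_filter.2 ⟨huw, (hmem u huw).2 (hmu ▸ h)⟩, sul, hmu.symm⟩
  · rintro ⟨u, hu1, -, rfl⟩
    obtain ⟨hw, hall⟩ := List.mem_filter.1 hu1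
    exact (hmem u hw).1 hall

/-- the images of a point under these elements -/
noncomputable def orbK (k : ℕ) (y : Pt) : Finset Pt :=
  (Set.toFinite {x | ∃ m : MM, Fix k m ∧ m • y = x}).toFinset

theorem mem_orbK {k : ℕ} {y x : Pt} : x ∈ orbK k y ↔ ∃ m : MM, Fix k m ∧ m • y = x := by
  simp [orbK]

theorem distCount_eq (l : List ℕ) : distCount l = l.toFinset.card := by
  induction l with
  | nil => rfl
  | cons x l ih =>
    show pick (l.any (Nat.beq x)) (distCount l) (Nat.succ (distCount l)) = _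
    rw [List.toFinset_cons, ih]
    by_cases h : x ∈ l
    · rw [show l.any (Nat.beq x) = true from List.any_eq_true.2 ⟨x, h, Nat.beq_refl x⟩, pick_true,
        Finset.insert_eq_of_mem (List.mem_toFinset.2 h)]
    · rw [show l.any (Nat.beq x) = false by
        rw [← Bool.not_eq_true, List.any_eq_true]
        rintro ⟨z, hz, e⟩
        exact h (Nat.eq_of_beq_eq_true e ▸ hz), pick_false,
        Finset.card_insert_of_notMem (by simpa using h)]

theorem orbK_list {k : ℕ} (hk3 : 3 ≤ k) (hk : k ≤ 22) (y : Pt) :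
    ((grpAt k).map fun g => pWord g y).toFinset = (orbK k y).map Fin.valEmbedding := by
  ext a
  simp only [List.mem_toFinset, List.mem_map, Finset.mem_map, mem_orbK, Fin.valEmbedding_apply]
  constructor
  · rintro ⟨u, hu, rfl⟩
    have hs : SL u := (trans_facts.2.1 u (List.mem_filter.1 hu).1).1
    exact ⟨md u • y, ⟨md u, (grp_spec hk3 hk _).2 ⟨u, hu, hs, rfl⟩, rfl⟩, md_smul hs y⟩
  · rintro ⟨_, ⟨m, hm, rfl⟩, rfl⟩
    obtain ⟨u, hu, hs, rfl⟩ := (grp_spec hk3 hk _).1 hm
    exact ⟨u, hu, (md_smul hs y).symm⟩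

theorem card_orbK {k : ℕ} (hk3 : 3 ≤ k) (hk : k ≤ 22) (y : Pt) :
    distCount ((grpAt k).map fun g => pWord g y) = (orbK k y).card := by
  rw [distCount_eq, orbK_list hk3 hk, Finset.card_map]

theorem orbMask_spec (us : List (List ℕ)) (x a : ℕ) :
    (orbMask us x).testBit a = true ↔ ∃ u ∈ us, pWord u x = a := by
  induction us with
  | nil => simp [orbMask]
  | cons u us ih =>
    show ((orbMask us x) ||| 2 ^ pWord u x).testBit a = true ↔ _
    simp [Nat.testBit_or, ih, Nat.testBit_two_pow, or_comm]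

theorem orbK_map {g : Equiv.Perm Pt} (hn : g ∈ Subgroup.normalizer (WW : Set _)) {k : ℕ} (hk : 2 ≤ k)
    (hfix : ∀ i < k, g (bp i) = bp i) (y : Pt) : (orbK k y).image g ⊆ orbK k (g y) := by
  intro x hx
  obtain ⟨z, hz, rfl⟩ := Finset.mem_image.1 hx
  obtain ⟨m, hm, rfl⟩ := mem_orbK.1 hz
  have h65 : m • d0 = d0 := by rw [← bp_first.2.1]; exact hm 1 (by omega)
  obtain ⟨m', -, e⟩ := mem_WW.1 ((Subgroup.mem_normalizer_iff.1 hn (sig m)).1 (mem_WW.2 ⟨m, h65, rfl⟩))
  have key : ∀ x : Pt, m' • g x = g (m • x) := fun x => by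
    have := congrArg (fun p : Equiv.Perm Pt => p (g x)) e
    simpa [sig_apply, Equiv.Perm.mul_apply] using this
  refine mem_orbK.2 ⟨m', fun i hi => ?_, key y⟩
  have := key (bp i)
  rwa [hm i hi, hfix i hi] at this

theorem card_orbK_map {g : Equiv.Perm Pt} (hn : g ∈ Subgroup.normalizer (WW : Set _)) {k : ℕ} (hk : 2 ≤ k)
    (hfix : ∀ i < k, g (bp i) = bp i) (y : Pt) : (orbK k (g y)).card = (orbK k y).card := by
  refine le_antisymm ?_ ?_
  · have := Finset.card_le_card (orbK_map (inv_mem hn) hk (fun i hi => by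
      rw [Equiv.Perm.inv_eq_iff_eq]; exact (hfix i hi).symm) (g y))
    rwa [Finset.card_image_of_injective _ g⁻¹.injective, show g⁻¹ (g y) = y by simp] at this
  · have := Finset.card_le_card (orbK_map hn hk hfix y)
    rwa [Finset.card_image_of_injective _ g.injective] at this

theorem steps_all {i : ℕ} (hi : i < 19) : stepOK i = true := by
  interval_cases i
  exacts [step0, step1, step2, step3, step4, step5, step6, step7, step8, step9, step10, step11, step12, step13,
    step14, step15, step16, step17, step18]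

theorem count_inv {g : Equiv.Perm Pt} (hg : g ∈ AutR0) {m : ℕ}
    (hm : ∀ y : Pt, m.testBit (g y : ℕ) = true ↔ m.testBit y = true) (x : Pt) {r r' : ℕ}
    (hr : ∀ y : Pt, r.testBit y = true ↔ R0 x y) (hr' : ∀ y : Pt, r'.testBit y = true ↔ R0 (g x) y) :
    popc (r' &&& m) 4060 = popc (r &&& m) 4060 := by
  rw [← card_mset, ← card_mset]
  refine (Finset.card_bij (fun y _ => g y) (fun y hy => ?_) (fun y _ y' _ e => g.injective e) fun y hy => ?_).symm
  · rw [mem_mset, Nat.testBit_and, Bool.and_eq_true] at hy ⊢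
    exact ⟨(hr' _).2 ((hg x y).2 ((hr y).1 hy.1)), (hm y).2 hy.2⟩
  · rw [mem_mset, Nat.testBit_and, Bool.and_eq_true] at hy
    refine ⟨g⁻¹ y, ?_, by simp⟩
    rw [mem_mset, Nat.testBit_and, Bool.and_eq_true]
    have e : g (g⁻¹ y) = y := by simp
    exact ⟨(hr _).2 ((hg x _).1 (e.symm ▸ (hr' y).1 hy.1)), (hm _).1 (e.symm ▸ hy.2)⟩

theorem step_fix {g : Equiv.Perm Pt} (hg : g ∈ AutR0) (hn : g ∈ Subgroup.normalizer (WW : Set _)) {i : ℕ}
    (hi : i < 19) (hfix : ∀ j < i + 3, g (bp j) = bp j) :
    ∃ m : MM, Fix (i + 3) m ∧ m • bp (i + 3) = g (bp (i + 3)) := by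
  have h := steps_all hi
  simp only [stepOK, Bool.and_eq_true, strict_eq] at h
  obtain ⟨hsize, hneed, hall⟩ := h
  set k := i + 3
  set t := bp k
  have hk3 : 3 ≤ k := by omega
  have hk : k ≤ 22 := by omega
  have htv : (t : ℕ) = basePts.getD k 0 := bp_val (by omega)
  rw [← htv] at hsize hall
  set u := g t
  have hu := allUp_pt hall u
  simp only [show ltB (u : ℕ) 4060 = true from ltB_iff.mpr u.2, pick_true, stepPtOK, strict_eq] at hu
  have hM : (cellMask (baseL.take k) t).testBit (u : ℕ) = true := by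
    rw [cell_inv hg hk hfix, cell_base hk]
    exact fun j hj => ⟨Iff.rfl, fun e => by have := bp_inj (by omega) (by omega) e; omega⟩
  have hsz : Nat.beq (distCount ((grpAt k).map fun g => pWord g u)) ((baseStep.getD i []).getD 0 0) = true := by
    rw [card_orbK hk3 hk, card_orbK_map hn (by omega) hfix, ← card_orbK hk3 hk]
    exact hsize
  rw [hM, pick_true, hsz, pick_true] at hu
  have hO : (orbMask (grpAt k) t).testBit (u : ℕ) = true := by
    rcases Nat.eq_zero_or_pos ((baseStep.getD i []).getD 1 0) with h0 | h0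
    · rw [h0, show Nat.beq 0 0 = true from rfl, pick_true] at hu
      exact hu
    · have hb : Nat.beq ((baseStep.getD i []).getD 1 0) 0 = false := by
        rw [← Bool.not_eq_true]; exact fun e => by have := Nat.eq_of_beq_eq_true e; omega
      rw [hb, pick_false] at hu
      simp only [List.any_eq_true, Bool.and_eq_true, Nat.blt_eq] at hu
      obtain ⟨e, -, ⟨⟨e1, e2⟩, e3⟩, e4⟩ := hu
      simp only [hb, Bool.false_or, Bool.and_eq_true, Bool.not_eq_true'] at hneed
      obtain ⟨hj, hval⟩ := hneed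
      rw [show Nat.beq (popc (rows.getD e.2 0 &&& cellMask (baseL.take k) ((baseStep.getD i []).getD 2 0)) 4060)
        ((baseStep.getD i []).getD 3 0) = true from ?_, pick_true] at e4
      · exact e4
      · have hjlt : (baseStep.getD i []).getD 2 0 < 4060 := by
          have : ∀ i < 19, (baseStep.getD i []).getD 2 0 < 4060 := by decide +kernel
          exact this i hi
        have := count_inv hg (m := cellMask (baseL.take k) ((baseStep.getD i []).getD 2 0))
          (fun y => cell_inv hg hk hfix ⟨_, hjlt⟩ y) t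
          (r := rows.getD (basePos.getD k 0) 0) (r' := rows.getD e.2 0) (row_base (by omega))
          (row_spec _ e2 (g t) (Nat.eq_of_beq_eq_true e3).symm)
        rw [this]
        exact hval
  obtain ⟨w, hw, e⟩ := (orbMask_spec _ _ _).1 hO
  have hs : SL w := (trans_facts.2.1 w (List.mem_filter.1 hw).1).1
  exact ⟨md w, (grp_spec hk3 hk _).2 ⟨w, hw, hs, rfl⟩, Fin.ext ((md_smul hs t).trans e)⟩

theorem eq_one_of_base {g : Equiv.Perm Pt} (hg : g ∈ AutR0) (hfix : ∀ i < 22, g (bp i) = bp i) : g = 1 := by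
  refine Equiv.ext fun v => ?_
  have hd := allUp_pt points_ok v
  simp only [pointOK, strict_eq, show ltB (v : ℕ) 4060 = true from ltB_iff.mpr v.2, pick_true,
    Bool.or_eq_true, List.any_eq_true] at hd
  rcases hd with ⟨b, hb, e⟩ | hd
  · obtain ⟨i, hi, rfl⟩ := List.mem_iff_getElem.1 hb
    rw [base_facts.1] at hi
    have hv : bp i = v := Fin.ext (by
      rw [bp_val hi, List.getD_eq_getElem _ _ (by rw [base_facts.1]; exact hi)]
      exact (Nat.eq_of_beq_eq_true e).symm)
    rw [← hv]; exact hfix i hi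
  · by_cases hv : ∃ i < 22, bp i = v
    · obtain ⟨i, hi, rfl⟩ := hv; exact hfix i hi
    · push Not at hv
      have hl : baseL.take 22 = baseL := List.take_of_length_le (by
        unfold baseL; rw [List.length_map, List.length_range, base_facts.1])
      have hm : (cellMask (baseL.take 22) v).testBit (g v : ℕ) = true := by
        rw [cell_inv hg le_rfl hfix, cell_base le_rfl]
        exact fun j hj => ⟨Iff.rfl, hv j hj⟩
      rw [hl, Nat.eq_of_beq_eq_true hd, Nat.testBit_two_pow, decide_eq_true_eq] at hm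
      exact Fin.ext hm.symm

/-- An automorphism fixing an edge and normalizing its stabilizer comes from the group. -/
theorem aut_edge {g : Equiv.Perm Pt} (hg : g ∈ AutR0) (hn : g ∈ Subgroup.normalizer (WW : Set _))
    (h0 : g 0 = 0) (h65 : g d0 = d0) : ∃ m : MM, sig m = g := by
  classical
  have hW : ∀ m : MM, m • d0 = d0 → sig m ∈ Subgroup.normalizer (WW : Set _) := fun m hm =>
    Subgroup.le_normalizer (mem_WW.2 ⟨m, hm, rfl⟩)
  suffices h : ∀ k, k ≤ 22 → ∃ m : MM, m • d0 = d0 ∧ ∀ i < k, g (bp i) = m • bp i by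
    obtain ⟨m, -, hm⟩ := h 22 le_rfl
    refine ⟨m, inv_mul_eq_one.1 (eq_one_of_base (mul_mem (inv_mem (sig_mem m)) hg) fun i hi => ?_)⟩
    rw [Equiv.Perm.mul_apply, hm i hi, Equiv.Perm.inv_eq_iff_eq, sig_apply]
  intro k
  induction k with
  | zero => exact fun _ => ⟨1, one_smul _ _, fun i hi => absurd hi (Nat.not_lt_zero i)⟩
  | succ k ih =>
    intro hk
    obtain ⟨m, hm65, hm⟩ := ih (by omega)
    set g' := (sig m)⁻¹ * g
    have hg' : g' ∈ AutR0 := mul_mem (inv_mem (sig_mem m)) hg
    have hn' : g' ∈ Subgroup.normalizer (WW : Set _) := mul_mem (inv_mem (hW m hm65)) hn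
    have hval : ∀ x, g' x = m⁻¹ • g x := fun x => by rw [Equiv.Perm.mul_apply, ← map_inv, sig_apply]
    have hf : ∀ i < k, g' (bp i) = bp i := fun i hi => by rw [hval, hm i hi, inv_smul_smul]
    suffices hs : ∃ n : MM, n • d0 = d0 ∧ (∀ i < k, n • bp i = bp i) ∧ n • bp k = g' (bp k) by
      obtain ⟨n, hn65, hn1, hn2⟩ := hs
      refine ⟨m * n, by rw [mul_smul, hn65, hm65], fun i hi => ?_⟩
      rw [mul_smul]
      rcases Nat.lt_succ_iff_lt_or_eq.1 hi with hi | rfl
      · rw [hn1 i hi]; exact hm i hi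
      · rw [hn2, hval, smul_inv_smul]
    rcases Nat.lt_or_ge k 3 with hk3 | hk3
    · interval_cases k
      · exact ⟨1, one_smul _ _, fun i hi => absurd hi (Nat.not_lt_zero i), by
          rw [one_smul, hval, bp_first.1, h0, mm_fix]⟩
      · refine ⟨1, one_smul _ _, fun i hi => one_smul _ _, ?_⟩
        rw [one_smul, hval, bp_first.2.1, h65]
        exact (inv_smul_eq_iff.2 hm65.symm).symm
      · have e0 : g' 0 = 0 := by have := hf 0 (by norm_num); rwa [bp_first.1] at this
        have e1 : g' d0 = d0 := by have := hf 1 (by norm_num); rwa [bp_first.2.1] at this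
        have hS : g' q2 ∈ SS := by
          rcases pt_cases (g' q2) with e | e | e
          · have := g'.injective (e.trans e0.symm); exact absurd (congrArg Fin.val this) (by decide)
          · exfalso
            rw [← R0_base, ← e0, hg', R0_base, DS, mem_mset] at e
            revert e
            show ¬ half0Mask.testBit 2 = true
            decide +kernel
          · exact e
        have hnot : ¬ R0 d0 (g' q2) := by
          rw [← e1, hg']
          intro hc
          have h := (row_spec _ nbrs.2.2.1 d0 nbrs.1.symm q2).2 hc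
          revert h
          show ¬ (rows.getD pos65 0).testBit 2 = true
          decide +kernel
        obtain ⟨hws, O, hOm, -, hcov, -, -, hrep⟩ := orbs_spec wOrbsS
        obtain ⟨j, hj⟩ := hcov (g' q2) hS
        obtain ⟨r, hr, -, hrO⟩ := hrep j
        obtain ⟨n, hnm, hne⟩ := hrO _ hj
        have hn65 : n • d0 = d0 := closure_fix hws (x := d0) fixes.1 hnm
        have hlen : wSRep = [1, 2] := by decide +kernel
        have hj2 : j.val < 2 := lt_of_lt_of_eq j.2 (by rw [hlen]; rfl)
        rcases Nat.lt_or_ge j.val 1 with hj1 | hj1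
        · exfalso
          apply hnot
          have e := mem_mset.1 ((hOm j) ▸ hj)
          rw [show j.val = 0 by omega, ← nbrs.2.2.2.2.2.1, Nat.testBit_and, Bool.and_eq_true] at e
          exact (row_spec _ nbrs.2.2.1 d0 nbrs.1.symm _).1 e.1
        · refine ⟨n, hn65, fun i hi => ?_, ?_⟩
          · rcases (show i = 0 ∨ i = 1 by omega) with rfl | rfl
            · rw [bp_first.1, mm_fix]
            · rw [bp_first.2.1, hn65]
          · rw [bp_first.2.2, ← hne]
            congr 1
            refine Fin.ext ?_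
            rw [hr, show j.val = 1 by omega, hlen]
            rfl
    · obtain ⟨n, hn1, hn2⟩ := step_fix hg' hn' (i := k - 3) (by omega)
        (fun j hj => hf j (by omega))
      rw [Nat.sub_add_cancel hk3] at hn1 hn2
      exact ⟨n, by rw [← bp_first.2.1]; exact hn1 1 (by omega), hn1, hn2⟩

end CfsgLib.RuRec
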