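import Cfsg.Agent.Lib.RuRec.Defs

/-!
The normalizer of an element of order four.
-/

set_option autoImplicit false
set_option Elab.async false
set_option maxRecDepth 30000

namespace CfsgLib.RuRec

open CfsgLib.RuGroup CfsgLib.CosetEnum

theorem rel_ok : relOK = true := by decide +kernel
theorem fixed13_ok : allUp (onlyFixed qW ssMask pPts) 12 0 = true := by decide +kernel
theorem fixed4_ok : allUp (onlyFixed rW half0Mask aPts) 12 0 = true := by decide +kernel
theorem conj_ok : conjOK = true := by decide +kernel
theorem trans_ok : transOK = true := by decide +kernel
theorem cands0 : candsOK ((vW.drop 0).take 160) = true := by decide +kernel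
theorem cands1 : candsOK ((vW.drop 160).take 160) = true := by decide +kernel
theorem cands2 : candsOK ((vW.drop 320).take 160) = true := by decide +kernel
theorem cands3 : candsOK ((vW.drop 480).take 160) = true := by decide +kernel
theorem cands4 : candsOK ((vW.drop 640).take 160) = true := by decide +kernel
theorem cands5 : candsOK ((vW.drop 800).take 160) = true := by decide +kernel
theorem cands6 : candsOK ((vW.drop 960).take 160) = true := by decide +kernel
theorem cands7 : candsOK ((vW.drop 1120).take 160) = true := by decide +kernel
theorem z_cover : zCover = true := by decide +kernel
theorem z0 : ((List.range 24).all fun i => zOK (i + 0)) = true := by decide +kernel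
theorem z1 : ((List.range 24).all fun i => zOK (i + 24)) = true := by decide +kernel
theorem z2 : ((List.range 24).all fun i => zOK (i + 48)) = true := by decide +kernel
theorem z3 : ((List.range 24).all fun i => zOK (i + 72)) = true := by decide +kernel

end CfsgLib.RuRec
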