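import Cfsg.Agent.Lib.RuRec.Defs

/-!
The orbits of small subgroups.
-/

set_option autoImplicit false
set_option Elab.async false
set_option maxRecDepth 30000

namespace CfsgLib.RuRec

open CfsgLib.RuGroup CfsgLib.CosetEnum

theorem split_ok : splitOK = true := by decide +kernel
theorem wOrbsD : orbsOK [[4], [5], [6], [7], [8]] half0Mask wDRep wDMask wDSize wDTrees = true := by decide +kernel
theorem wOrbsS : orbsOK [[4], [5], [6], [7], [8]] ssMask wSRep wSMask wSSize wSTrees = true := by decide +kernel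
theorem lOrbsD : orbsOK lW half0Mask lDRep lDMask lDSize lDTrees = true := by decide +kernel
theorem lOrbsS : orbsOK lW ssMask lSRep lSMask lSSize lSTrees = true := by decide +kernel
theorem uOrbs : orbsOK uW half0Mask uDRep uDMask uDSize uDTrees = true := by decide +kernel

theorem fixes : fixOK [[4], [5], [6], [7], [8]] 65 = true ∧ fixOK lW 1 = true ∧ fixOK uW 65 = true := by
  decide +kernel

theorem nbrs : rowPts.getD pos65 0 = 65 ∧ rowPts.getD pos1 0 = 1 ∧ pos65 < rows.length ∧ pos1 < rows.length ∧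
    rows.getD pos65 0 &&& half0Mask = wDMask.getD 1 0 ||| wDMask.getD 2 0 ||| wDMask.getD 3 0 ∧
    rows.getD pos65 0 &&& ssMask = wSMask.getD 0 0 ∧
    rows.getD pos1 0 &&& half0Mask = lDMask.getD 0 0 ∧
    rows.getD pos1 0 &&& ssMask = lSMask.getD 5 0 := by decide +kernel

theorem sizes_eq : wDSize = [1, 10, 80, 640, 1024] ∧ wSSize = [1024, 1280] ∧ lDSize = [780, 975] ∧
    lSSize = [1, 78, 300, 300, 650, 975] ∧ uDSize = [1, 2, 8, 16, 64, 128, 512, 1024] ∧
    wDMask.getD 0 0 = 2 ^ 65 ∧ uDMask.getD 0 0 = 2 ^ 65 := by decide +kernel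

end CfsgLib.RuRec
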