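import Cfsg.Agent.Lib.RuRec.Defs

/-!
The tables of the letters.
-/

set_option autoImplicit false
set_option Elab.async false
set_option maxRecDepth 30000

namespace CfsgLib.RuRec

open CfsgLib.RuGroup CfsgLib.CosetEnum

theorem perm0 : permOK 0 = true := by decide +kernel
theorem perm1 : permOK 1 = true := by decide +kernel
theorem perm2 : permOK 2 = true := by decide +kernel
theorem perm3 : permOK 3 = true := by decide +kernel
theorem perm4 : permOK 4 = true := by decide +kernel
theorem perm5 : permOK 5 = true := by decide +kernel
theorem perm6 : permOK 6 = true := by decide +kernel
theorem perm7 : permOK 7 = true := by decide +kernel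
theorem perm8 : permOK 8 = true := by decide +kernel

end CfsgLib.RuRec
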