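import Cfsg.Agent.Lib.RuRec.Defs

/-!
The rows, first part.
-/

set_option autoImplicit false
set_option Elab.async false
set_option maxRecDepth 30000

namespace CfsgLib.RuRec

open CfsgLib.RuGroup CfsgLib.CosetEnum

theorem rows_head : rows.length = 156 ∧ rowPts.length = 156 ∧ rowPts.getD 0 1 = 0 ∧ rows.getD 0 0 = half0Mask ∧
    (rowPts.all fun z => Nat.blt z 4060) = true := by decide +kernel

theorem rows0 : ((List.range 13).all fun i => rowOK (i + 1)) = true := by decide +kernel
theorem rows1 : ((List.range 13).all fun i => rowOK (i + 14)) = true := by decide +kernel
theorem rows2 : ((List.range 13).all fun i => rowOK (i + 27)) = true := by decide +kernel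
theorem rows3 : ((List.range 13).all fun i => rowOK (i + 40)) = true := by decide +kernel
theorem rows4 : ((List.range 13).all fun i => rowOK (i + 53)) = true := by decide +kernel
theorem rows5 : ((List.range 13).all fun i => rowOK (i + 66)) = true := by decide +kernel

end CfsgLib.RuRec
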