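import Cfsg.Agent.Lib.RuRec.Defs

/-!
The rows, second part.
-/

set_option autoImplicit false
set_option Elab.async false
set_option maxRecDepth 30000

namespace CfsgLib.RuRec

open CfsgLib.RuGroup CfsgLib.CosetEnum

theorem rows6 : ((List.range 13).all fun i => rowOK (i + 79)) = true := by decide +kernel
theorem rows7 : ((List.range 13).all fun i => rowOK (i + 92)) = true := by decide +kernel
theorem rows8 : ((List.range 13).all fun i => rowOK (i + 105)) = true := by decide +kernel
theorem rows9 : ((List.range 13).all fun i => rowOK (i + 118)) = true := by decide +kernel
theorem rows10 : ((List.range 13).all fun i => rowOK (i + 131)) = true := by decide +kernel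
theorem rows11 : ((List.range 12).all fun i => rowOK (i + 144)) = true := by decide +kernel

end CfsgLib.RuRec
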