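import Cfsg.Agent.Lib.RuRec.Defs

/-!
The vectors of the points.
-/

set_option autoImplicit false
set_option Elab.async false
set_option maxRecDepth 30000

namespace CfsgLib.RuRec

open CfsgLib.RuGroup CfsgLib.CosetEnum

theorem vec_ok : allUp vecOK 12 0 = true := by decide +kernel

theorem genPair0 : genPairOK 0 = true := by decide +kernel
theorem genPair1 : genPairOK 1 = true := by decide +kernel
theorem genPair2 : genPairOK 2 = true := by decide +kernel
theorem genPair3 : genPairOK 3 = true := by decide +kernel
theorem genPair4 : genPairOK 4 = true := by decide +kernel
theorem genPair5 : genPairOK 5 = true := by decide +kernel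
theorem genPair6 : genPairOK 6 = true := by decide +kernel
theorem genPair7 : genPairOK 7 = true := by decide +kernel

theorem rootPair0 : rootPairOK 0 = true := by decide +kernel
theorem rootPair1 : rootPairOK 1 = true := by decide +kernel
theorem rootPair2 : rootPairOK 2 = true := by decide +kernel
theorem rootPair3 : rootPairOK 3 = true := by decide +kernel
theorem rootPair4 : rootPairOK 4 = true := by decide +kernel
theorem rootPair5 : rootPairOK 5 = true := by decide +kernel
theorem rootPair6 : rootPairOK 6 = true := by decide +kernel
theorem rootPair7 : rootPairOK 7 = true := by decide +kernel
theorem rootPair8 : rootPairOK 8 = true := by decide +kernel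
theorem rootPair9 : rootPairOK 9 = true := by decide +kernel
theorem rootPair10 : rootPairOK 10 = true := by decide +kernel
theorem rootPair11 : rootPairOK 11 = true := by decide +kernel

end CfsgLib.RuRec
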