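import Cfsg.Agent.Lib.RuRec.Data
import Cfsg.Agent.Lib.RuRec.PermData
import Cfsg.Agent.Lib.RuGroup.LineDefs
import Cfsg.Agent.Lib.CosetEnum.Act
import Cfsg.Agent.Lib.Chev.TwistF4Two

/-!
The Boolean checks of the data for the rank three action on 4060 points.
-/

set_option autoImplicit false

namespace CfsgLib.RuRec

open CfsgLib.CosetEnum CfsgLib.RuGroup

/-- the image of a point under a letter -/
noncomputable def pImg (g : ℕ) (x : ℕ) : ℕ :=
  (tenth permTab0 permTab1 permTab2 permTab3 permTab4 permTab5 permTab6 permTab7 permTab8 permTab8 g).at'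
    (nat_lit 12) x

/-- the image of a point under a word, the last letter first -/
noncomputable def pWord (w : List ℕ) (x : ℕ) : ℕ :=
  List.rec x (fun g _ ih => pImg g ih) w

/-- the table of a letter is right -/
noncomputable def permOK (g : ℕ) : Bool :=
  allUp (fun x => strict x fun x => pick (ltB x 4060) (Nat.beq (pImg g x) (lineImg g x)) true) 12 0

/-- all points -/
def fullM : ℕ := 2 ^ 4060 - 1

/-- a point in a row goes to a point in the next row -/
noncomputable def rowStep (r r' g : ℕ) (y : ℕ) : Bool :=
  strict y fun y => pick (ltB y 4060) (pick (Nat.testBit r y) (Nat.testBit r' (pImg g y)) true) true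

/-- row number `i` comes from an earlier one by a letter -/
noncomputable def rowOK (i : ℕ) : Bool :=
  let p := (rowPar.getD i (0, 0)).1
  let g := (rowPar.getD i (0, 0)).2
  Nat.blt p i && Nat.blt g 9 && Nat.beq (pImg g (rowPts.getD p 0)) (rowPts.getD i 0) &&
    strict (rows.getD p 0) fun r => strict (rows.getD i 0) fun r' =>
      Nat.beq (popc r' 4060) 1755 && allUp (rowStep r r' g) 12 0

/-- words in the letters fixing the first point -/
noncomputable def stabLetters (ws : List (List ℕ)) : Bool :=
  ws.all fun w => w.all fun g => ltB 1 g && ltB g 9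

/-- words fixing a point -/
noncomputable def fixOK (ws : List (List ℕ)) (x : ℕ) : Bool :=
  ws.all fun w => Nat.beq (pWord w x) x

/-- the mask reached along a tree -/
noncomputable def reachW (ws : List (List ℕ)) : List (ℕ × ℕ) → ℕ → Option ℕ
  | [], m => some m
  | (x, i) :: es, m =>
    bif Nat.testBit m x && Nat.blt x 4060 && Nat.blt i ws.length then
      reachW ws es (m ||| 2 ^ pWord (ws.getD i []) x)
    else none

/-- the orbits of words inside a set -/
noncomputable def orbsOK (ws : List (List ℕ)) (dom : ℕ) (reps masks sizes : List ℕ)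
    (trees : List (List (ℕ × ℕ))) : Bool :=
  stabLetters ws && Nat.beq masks.length reps.length && Nat.beq sizes.length reps.length &&
    ((List.range reps.length).all fun i =>
      Nat.blt (reps.getD i 0) 4060 &&
        (reachW ws (trees.getD i []) (2 ^ reps.getD i 0) == some (masks.getD i 0)) &&
        Nat.beq (popc (masks.getD i 0) 4060) (sizes.getD i 0)) &&
    Nat.beq (masks.foldr Nat.lor 0) dom && Nat.beq sizes.sum (popc dom 4060)

/-- the first two suborbits fill the points -/
noncomputable def splitOK : Bool :=
  Nat.beq (half0Mask ||| ssMask ||| 1) fullM && Nat.beq (half0Mask &&& ssMask) 0 &&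
    !half0Mask.testBit 0 && !ssMask.testBit 0 && Nat.beq (popc ssMask 4060) 2304

/-- two words agree on the base of the chain -/
noncomputable def sameW (v w : List ℕ) : Bool :=
  (v.all fun g => ltB g 9) && (w.all fun g => ltB g 9) &&
    [0, 65, 2, 1].all fun x => Nat.beq (pWord v x) (pWord w x)

/-- a power of a word -/
def rep (w : List ℕ) (n : ℕ) : List ℕ := (List.replicate n w).flatten

/-! ### Vectors -/

/-- the vector of a point -/
noncomputable def vecOf (x : ℕ) : ℕ := vecTab.at' 52 x

/-- the vectors are distinct -/
noncomputable def vecOK (x : ℕ) : Bool :=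
  strict x fun x => pick (ltB x 4060 && half0Mask.testBit x)
    (strict (rkTab.at' 12 x) fun j => ltB j 1755 && Nat.beq (ordTab.at' 12 j) x &&
      pick (ltB (j + 1) 1755) (ltB (vecOf x) (vecOf (ordTab.at' 12 (j + 1)))) true)
    true

/-- the root words of the generators -/
def gwords : List (List ℕ) :=
  [[33, 24], [14, 23], [28, 30], [27, 25, 28], [27, 25, 30], [19, 17], [20, 22, 19], [20, 22, 17]]

/-- a root word and a stabilizer word act alike -/
noncomputable def actOK (v w : List ℕ) (x : ℕ) : Bool :=
  strict x fun x => pick (ltB x 4060 && half0Mask.testBit x)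
    (Nat.beq (CfsgLib.Chev.F4Two.evalW v (vecOf x)) (vecOf (pWord w x))) true

/-- one generator pair -/
noncomputable def genPairOK (k : ℕ) : Bool :=
  allUp (actOK (gwords.getD k []) (gW.getD k [])) 12 0

/-- one root element pair -/
noncomputable def rootPairOK (k : ℕ) : Bool :=
  allUp (actOK (CfsgLib.Chev.F4Two.orbWord (CfsgLib.Chev.F4Two.reps12.getD k 0)) (uW.getD k [])) 12 0

/-! ### The normalizer of an element of order four -/

/-- point number `i` of the three fixed by the element of order thirteen -/
def pAt (i : ℕ) : ℕ := pPts.getD i 0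

/-- point number `i` of the three fixed by the element of order four -/
def aAt (i : ℕ) : ℕ := aPts.getD i 0

/-- relations -/
noncomputable def relOK : Bool :=
  stabLetters [qW, rW, cW, nW, tW, rW0] &&
    sameW (rep qW 13) [] && sameW (rep rW 4) [] && !sameW (rep rW 2) [] && !sameW qW [] &&
    sameW (rW ++ qW) (rep qW 8 ++ rW) && sameW (cW ++ qW) (rep qW 3 ++ cW) &&
    sameW (nW ++ rW) (rW ++ nW) && sameW (tW ++ rW0) (rW ++ tW) &&
    Nat.beq pPts.length 3 && Nat.beq aPts.length 3 && decide pPts.Nodup && decide aPts.Nodup &&
    Nat.beq (pWord cW (pAt 0)) (pAt 1) && Nat.beq (pWord cW (pAt 1)) (pAt 2) &&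
    Nat.beq (pWord nW (aAt 0)) (aAt 1) && Nat.beq (pWord nW (aAt 1)) (aAt 2) &&
    Nat.beq (pWord nW (aAt 2)) (aAt 0) && Nat.beq (pWord tW 65) (aAt 0) && Nat.beq (pAt 0) 1 &&
    (pPts.all fun p => ltB p 4060 && ssMask.testBit p && Nat.beq (pWord qW p) p && Nat.beq (pWord rW p) p) &&
    (aPts.all fun p => ltB p 4060 && half0Mask.testBit p && Nat.beq (pWord rW p) p) &&
    Nat.beq (pWord rW0 65) 65

/-- nothing else is fixed -/
noncomputable def onlyFixed (w : List ℕ) (dom : ℕ) (l : List ℕ) (x : ℕ) : Bool :=
  strict x fun x => pick (ltB x 4060 && dom.testBit x)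
    (l.any (Nat.beq x) || !Nat.beq (pWord w x) x) true

/-- the two images of the other fixed points -/
noncomputable def triple (w : List ℕ) : ℕ :=
  2 ^ pWord w (pAt 1) ||| 2 ^ pWord w (pAt 2)

/-- the conjugates are distinct -/
noncomputable def conjOK : Bool :=
  stabLetters conjW && fixOK conjW 1 && Nat.beq conjW.length 41 &&
    (List.range 41).all fun i => (List.range i).all fun j =>
      !Nat.beq (triple (conjW.getD i [])) (triple (conjW.getD j []))

/-- the transversals close up -/
noncomputable def transOK : Bool :=
  stabLetters vW && stabLetters wW && (vW.all fun v => v.all fun g => ltB 3 g) &&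
    (wW.all fun u => u.all fun g => ltB 5 g) &&
    strict (vW.foldr (fun v m => m ||| 2 ^ pWord v 2) 0) fun m2 =>
    strict (wW.foldr (fun u m => m ||| 2 ^ pWord u 1) 0) fun m1 =>
      m2.testBit 2 && m1.testBit 1 && (wW.any fun u => Nat.beq (pWord u 1) 1) &&
      (vW.all fun v => strict (pWord v 2) fun b => [4, 5, 6, 7, 8].all fun g => m2.testBit (pImg g b)) &&
      (wW.all fun u => strict (pWord u 1) fun c => [6, 7, 8].all fun g => m1.testBit (pImg g c))

/-- the images of a point under the powers of the element of order four -/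
noncomputable def inPowers (y x : ℕ) : Bool :=
  Nat.beq x y || strict (pWord rW0 y) fun y1 => Nat.beq x y1 ||
    strict (pWord rW0 y1) fun y2 => Nat.beq x y2 || Nat.beq x (pWord rW0 y2)

/-- the first test of a candidate -/
noncomputable def test0 (v u : List ℕ) : Bool :=
  inPowers (pWord v (pWord u 2)) (pWord v (pWord u (pWord rW0 2)))

/-- the further tests of a candidate -/
noncomputable def testsAll (v u : List ℕ) : Bool :=
  testPts.all fun p => strict (pWord (v ++ u) p) fun wp =>
    inPowers wp (pWord (v ++ u) (pWord rW0 p)) && inPowers p (pWord (v ++ u) wp)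

/-- a candidate passing the tests is listed -/
noncomputable def candOK (v u : List ℕ) : Bool :=
  pick (test0 v u)
    (pick (testsAll v u)
      (goodL.any fun e => Nat.beq e.1 (pWord v 2) && Nat.beq e.2 (pWord u 1)) true) true

/-- all candidates -/
noncomputable def candsOK (vs : List (List ℕ)) : Bool :=
  vs.all fun v => wW.all fun u => candOK v u

/-- the word of a listed candidate -/
noncomputable def goodWord (e : ℕ × ℕ) : List ℕ :=
  ((vW.find? fun v => Nat.beq (pWord v 2) e.1).getD []) ++
    ((wW.find? fun u => Nat.beq (pWord u 1) e.2).getD [])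

/-- the word made of a list of choices among three words -/
def triWord (a b c : List ℕ) (l : List ℕ) : List ℕ := l.flatMap fun i => [a, b, c].getD i []

/-- record number `i` is right -/
noncomputable def zOK (i : ℕ) : Bool :=
  let z := zW.getD i []
  let d := zInfo.getD i []
  let k := d.getD 1 0
  let pre := rep nW k ++ tW
  sameW (z ++ pre) (pre ++ goodWord (d.getD 2 0, d.getD 3 0)) && (z.all fun g => ltB 1 g) &&
    match d.getD 0 0 with
    | 0 => Nat.blt (d.getD 4 0) 4 && sameW z (rep rW (d.getD 4 0))
    | 1 => Nat.blt (d.getD 4 0) 3 && Nat.beq (pWord z (pAt (d.getD 4 0))) (pAt (d.getD 4 0))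
    | _ => Nat.blt (d.getD 4 0) 3 && Nat.blt (d.getD 5 0) 3 && !Nat.beq (d.getD 4 0) (d.getD 5 0) &&
        Nat.beq (pWord (triWord qW rW z (zMap.getD i [])) (pAt (d.getD 4 0))) (pAt (d.getD 5 0))

/-- the records cover all candidates and powers -/
noncomputable def zCover : Bool :=
  Nat.beq zInfo.length 96 && goodL.all fun e => (List.range 3).all fun k =>
    zInfo.any fun d => Nat.beq (d.getD 1 0) k && Nat.beq (d.getD 2 0) e.1 && Nat.beq (d.getD 3 0) e.2

/-! ### The base -/

/-- the points with the same adjacencies to `prev` as `t` -/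
def cellMask : List (ℕ × ℕ) → ℕ → ℕ
  | [], _ => fullM
  | (b, r) :: l, t => cellMask l t &&& ((if r.testBit t then r else fullM ^^^ r) &&& (fullM ^^^ 2 ^ b))

/-- the base with its rows -/
def baseL : List (ℕ × ℕ) := (List.range basePts.length).map fun i =>
  (basePts.getD i 0, rows.getD (basePos.getD i 0) 0)

/-- the base is consistent with the rows -/
def baseOK : Bool :=
  Nat.beq basePts.length 22 && Nat.beq basePos.length 22 && decide basePts.Nodup &&
    Nat.beq (basePts.getD 0 1) 0 && Nat.beq (basePts.getD 1 0) 65 && Nat.beq (basePts.getD 2 0) 2 &&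
    (List.range 22).all fun i =>
      Nat.blt (basePos.getD i 0) rows.length &&
        Nat.beq (rowPts.getD (basePos.getD i 0) 0) (basePts.getD i 1) && Nat.blt (basePts.getD i 0) 4060

/-- the transversal words fixing the first base points -/
noncomputable def grpAt (k : ℕ) : List (List ℕ) :=
  wW.filter fun u => (basePts.take k).all fun b => Nat.beq (pWord u b) b

/-- the images of a point -/
noncomputable def orbMask (us : List (List ℕ)) (x : ℕ) : ℕ :=
  us.foldr (fun u m => m ||| 2 ^ pWord u x) 0

/-- the number of distinct entries -/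
noncomputable def distCount : List ℕ → ℕ :=
  List.rec 0 fun x l ih => pick (l.any (Nat.beq x)) ih (Nat.succ ih)

/-- a point with the pattern, the orbit size and the count lies in the orbit -/
noncomputable def stepPtOK (us : List (List ℕ)) (M O size need m val : ℕ) (mem : List (ℕ × ℕ)) (u : ℕ) :
    Bool :=
  strict u fun u => pick (M.testBit u)
    (pick (Nat.beq (distCount (us.map fun g => pWord g u)) size)
      (pick (Nat.beq need 0) (O.testBit u)
        (mem.any fun e => Nat.beq e.1 u && Nat.blt e.2 rows.length && Nat.beq (rowPts.getD e.2 0) u &&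
          pick (Nat.beq (popc (rows.getD e.2 0 &&& m) 4060) val) (O.testBit u) true))
      true)
    true

/-- step number `i` -/
noncomputable def stepOK (i : ℕ) : Bool :=
  let t := basePts.getD (i + 3) 0
  let d := baseStep.getD i []
  let us := grpAt (i + 3)
  let pre := baseL.take (i + 3)
  Nat.beq (distCount (us.map fun g => pWord g t)) (d.getD 0 0) &&
    strict (cellMask pre t) fun M => strict (orbMask us t) fun O => strict (cellMask pre (d.getD 2 0)) fun m =>
      (Nat.beq (d.getD 1 0) 0 || (!(basePts.take (i + 3)).any (Nat.beq (d.getD 2 0)) &&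
        strict (rows.getD (basePos.getD (i + 3) 0) 0) fun r => Nat.beq (popc (r &&& m) 4060) (d.getD 3 0))) &&
      allUp (fun u => pick (ltB u 4060)
        (stepPtOK us M O (d.getD 0 0) (d.getD 1 0) m (d.getD 3 0) (baseMem.getD i []) u) true) 12 0

/-- every point is determined by the base -/
noncomputable def pointOK (v : ℕ) : Bool :=
  strict v fun v => pick (ltB v 4060) (basePts.any (Nat.beq v) || Nat.beq (cellMask baseL v) (2 ^ v)) true

end CfsgLib.RuRec
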