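import Cfsg.Agent.Lib.RuRec.Model
import Cfsg.Agent.Lib.RuRec.CheckVec
import Cfsg.Agent.Lib.Chev.TitsGroup

/-!
The stabilizer of a point is `²F₄(2)`, acting on 1755 vectors as on the suborbit.
-/

set_option autoImplicit false
set_option maxRecDepth 20000

namespace CfsgLib.RuRec

open CfsgLib.CosetEnum CfsgLib.RuGroup MulAction
open Cfsg.Lie Matrix CfsgLib.Chev CfsgLib.Chev.F4Two

attribute [local irreducible] half0Mask ssMask rows pImg lineImg vecTab ordTab rkTab

theorem get_lt (t : PTab) : ∀ w i : ℕ, t.get w i < 2 ^ w := by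
  induction t with
  | leaf p =>
    intro w i
    show (p >>> (w * i)) % 2 ^ w < 2 ^ w
    exact Nat.mod_lt _ (pow_pos two_pos w)
  | node l r ihl ihr =>
    intro w i
    show (Nat.rec (motive := fun _ => ℕ → ℕ) (l.get w) (fun _ _ => r.get w) (i % 2) : ℕ → ℕ) (i / 2) < _
    rcases Nat.mod_two_eq_zero_or_one i with h | h <;> rw [h]
    · exact ihl w _
    · exact ihr w _

theorem vec_lt (x : ℕ) : vecOf x < 2 ^ 52 := by
  rw [vecOf, PTab.at', strict_eq]; exact get_lt _ _ _

theorem vec_rec {x : Pt} (hx : x ∈ DS) : ∃ j, j < 1755 ∧ rkTab.at' 12 x = j ∧ ordTab.at' 12 j = x ∧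
    (j + 1 < 1755 → vecOf x < vecOf (ordTab.at' 12 (j + 1))) := by
  have h := allUp_pt vec_ok x
  simp only [vecOK, strict_eq, show ltB (x : ℕ) 4060 = true from ltB_iff.mpr x.2, mem_mset.1 hx, Bool.and_self,
    pick_true, Bool.and_eq_true, ltB_iff] at h
  obtain ⟨⟨h1, h2⟩, h3⟩ := h
  refine ⟨_, h1, rfl, Nat.eq_of_beq_eq_true h2, fun hj => ?_⟩
  rw [show ltB (rkTab.at' 12 x + 1) 1755 = true from ltB_iff.mpr hj, pick_true, ltB_iff] at h3
  exact h3

theorem ord_mono : ∀ {j k : ℕ}, j < k → k < 1755 →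
    (∀ i < 1755, ∃ x : Pt, x ∈ DS ∧ rkTab.at' 12 x = i) → vecOf (ordTab.at' 12 j) < vecOf (ordTab.at' 12 k) := by
  intro j k hjk hk hsur
  induction k, hjk using Nat.le_induction with
  | base =>
    obtain ⟨x, hx, e⟩ := hsur j (by omega)
    obtain ⟨i, -, h1, h2, h3⟩ := vec_rec hx
    rw [e] at h1; subst h1
    rw [h2]; exact h3 hk
  | succ m hm ih =>
    refine (ih (by omega)).trans ?_
    obtain ⟨x, hx, e⟩ := hsur m (by omega)
    obtain ⟨i, -, h1, h2, h3⟩ := vec_rec hx
    rw [e] at h1; subst h1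
    rw [h2]; exact h3 hk

theorem vec_inj {x y : Pt} (hx : x ∈ DS) (hy : y ∈ DS) (h : vecOf x = vecOf y) : x = y := by
  classical
  have hinj : Set.InjOn (fun z : Pt => rkTab.at' 12 z) ↑DS := fun a ha b hb e => by
    obtain ⟨i, -, h1, h2, -⟩ := vec_rec ha
    obtain ⟨k, -, g1, g2, -⟩ := vec_rec hb
    refine Fin.ext (h2.symm.trans ?_)
    rw [← g2, ← h1, ← g1]
    exact congrArg (ordTab.at' 12) e
  have himg : DS.image (fun z : Pt => rkTab.at' 12 z) = Finset.range 1755 :=
    Finset.eq_of_subset_of_card_le (fun i hi => by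
      obtain ⟨z, hz, rfl⟩ := Finset.mem_image.1 hi
      obtain ⟨j, hj, e, -⟩ := vec_rec hz
      exact Finset.mem_range.2 (e ▸ hj))
      (by rw [Finset.card_range, Finset.card_image_of_injOn hinj, card_DS])
  have hsur : ∀ i < 1755, ∃ z : Pt, z ∈ DS ∧ rkTab.at' 12 z = i := fun i hi =>
    Finset.mem_image.1 (himg ▸ Finset.mem_range.2 hi)
  obtain ⟨i, hi, h1, h2, -⟩ := vec_rec hx
  obtain ⟨k, hk, g1, g2, -⟩ := vec_rec hy
  rcases lt_trichotomy i k with l | l | l
  · exact absurd h (by rw [← h2, ← g2]; exact (ord_mono l hk hsur).ne)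
  · exact Fin.ext (by rw [← h2, ← g2, l])
  · exact absurd h (by rw [← h2, ← g2]; exact (ord_mono l hi hsur).ne')

/-- the vector of a point of the suborbit -/
noncomputable def V (x : Pt) : chevF4.Idx → ZMod 2 := phi (vecOf x)

theorem V_inj {x y : Pt} (hx : x ∈ DS) (hy : y ∈ DS) (h : V x = V y) : x = y :=
  vec_inj hx hy (phi_injOn (vec_lt _) (vec_lt _) h)

/-- a matrix moves the vectors as an element of the stabilizer moves the points -/
def Act (g : GL chevF4.Idx (ZMod 2)) (m : MM) : Prop :=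
  ∀ x ∈ DS, (g : Matrix chevF4.Idx chevF4.Idx (ZMod 2)) *ᵥ V x = V (m • x)

theorem Act.one : Act 1 1 := fun x _ => by rw [Units.val_one, one_mulVec, one_smul]

theorem Act.mul {g h : GL chevF4.Idx (ZMod 2)} {m n : MM} (a : Act g m) (b : Act h n) : Act (g * h) (m * n) :=
  fun x hx => by rw [Units.val_mul, ← mulVec_mulVec, b x hx, a _ (smul_DS.2 hx), mul_smul]

theorem Act.inv {g : GL chevF4.Idx (ZMod 2)} {m : MM} (a : Act g m) : Act g⁻¹ m⁻¹ := fun x hx => by
  have h := a (m⁻¹ • x) (smul_DS.2 hx)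
  rw [smul_inv_smul] at h
  rw [← h, mulVec_mulVec, ← Units.val_mul, inv_mul_cancel, Units.val_one, one_mulVec]

theorem act_word {v w : List ℕ} (hv : ∀ r ∈ v, r < 48) (hw : SL w) (h : allUp (actOK v w) 12 0 = true) :
    Act (Wd v) (md w) := fun x hx => by
  have h' := allUp_pt h x
  simp only [actOK, strict_eq, show ltB (x : ℕ) 4060 = true from ltB_iff.mpr x.2, mem_mset.1 hx, Bool.and_self,
    pick_true] at h'
  rw [V, Wd_phi hv, Nat.eq_of_beq_eq_true h', V, md_smul hw]

theorem gen_facts : stabLetters gW = true ∧ gW.length = 8 ∧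
    ((List.range 8).all fun k => (gwords.getD k []).all fun r => decide (r < 48)) = true := by decide +kernel

theorem act_gen {k : ℕ} (hk : k < 8) : ∃ m, Act (Wd (gwords.getD k [])) m := by
  obtain ⟨h1, h2, h3⟩ := gen_facts
  simp only [List.all_eq_true, List.mem_range, decide_eq_true_eq] at h3
  refine ⟨md (gW.getD k []), act_word (h3 k hk) (sl_of h1 ?_) ?_⟩
  · rw [List.getD_eq_getElem _ _ (by omega)]; exact List.getElem_mem _
  · interval_cases k
    exacts [genPair0, genPair1, genPair2, genPair3, genPair4, genPair5, genPair6, genPair7]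

theorem exists_act (g : GL chevF4.Idx (ZMod 2)) (hg : g ∈ G2) : ∃ m, Act g m := by
  let H : Subgroup (GL chevF4.Idx (ZMod 2)) :=
    { carrier := {g | ∃ m, Act g m}
      one_mem' := ⟨1, Act.one⟩
      mul_mem' := fun ⟨m, a⟩ ⟨n, b⟩ => ⟨m * n, a.mul b⟩
      inv_mem' := fun ⟨m, a⟩ => ⟨m⁻¹, a.inv⟩ }
  have hle : G2 ≤ H := by
    refine certF4.genSubgroup_le fun w hw => ?_
    have hz : ∀ r < tabF4.n, X chevF4 r (0 : ZMod 2) = 1 := fun r hr => certF4.X_zero hr
    have hn : 48 = tabF4.n := rfl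
    have h01 : ∀ t : ZMod 2, t = 0 ∨ t = 1 := by decide
    have h11 : (1 : ZMod 2) + 1 = 0 := by decide
    have g0 : Wd [33, 24] ∈ H := act_gen (k := 0) (by norm_num)
    have g1 : Wd [14, 23] ∈ H := act_gen (k := 1) (by norm_num)
    have g2 : Wd [28, 30] ∈ H := act_gen (k := 2) (by norm_num)
    have g3 : Wd [27, 25, 28] ∈ H := act_gen (k := 3) (by norm_num)
    have g4 : Wd [27, 25, 30] ∈ H := act_gen (k := 4) (by norm_num)
    have g5 : Wd [19, 17] ∈ H := act_gen (k := 5) (by norm_num)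
    have g6 : Wd [20, 22, 19] ∈ H := act_gen (k := 6) (by norm_num)
    have g7 : Wd [20, 22, 17] ∈ H := act_gen (k := 7) (by norm_num)
    rcases hw with ⟨t, rfl | rfl⟩ | ⟨t, u, rfl | rfl⟩
    · rcases h01 t with rfl | rfl
      · simp [f4PairWord, f4p1, f4p4, hz 33 (by omega), hz 24 (by omega)]
      · simpa [f4PairWord, Wd_eq_prod, f4p1, f4p4] using g0
    · rcases h01 t with rfl | rfl
      · simp [f4PairWord, f4m1, f4m4, hz 14 (by omega), hz 23 (by omega)]
      · simpa [f4PairWord, Wd_eq_prod, f4m1, f4m4] using g1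
    · rcases h01 t with rfl | rfl <;> rcases h01 u with rfl | rfl
      · simp [b2ClassWord, f4a, f4b, f4ab, f4aab, hz 25 (by omega), hz 27 (by omega),
          hz 28 (by omega), hz 30 (by omega)]
      · simpa [b2ClassWord, Wd_eq_prod, f4a, f4b, f4ab, f4aab, hz 25 (by omega),
          hz 27 (by omega)] using g2
      · simpa [b2ClassWord, Wd_eq_prod, f4a, f4b, f4ab, f4aab, hz 30 (by omega)] using g3
      · simpa [b2ClassWord, Wd_eq_prod, f4a, f4b, f4ab, f4aab, h11, hz 28 (by omega)] using g4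
    · rcases h01 t with rfl | rfl <;> rcases h01 u with rfl | rfl
      · simp [b2ClassWord, f4ma, f4mb, f4mab, f4maab, hz 20 (by omega), hz 22 (by omega),
          hz 19 (by omega), hz 17 (by omega)]
      · simpa [b2ClassWord, Wd_eq_prod, f4ma, f4mb, f4mab, f4maab, hz 20 (by omega),
          hz 22 (by omega)] using g5
      · simpa [b2ClassWord, Wd_eq_prod, f4ma, f4mb, f4mab, f4maab, hz 17 (by omega)] using g6
      · simpa [b2ClassWord, Wd_eq_prod, f4ma, f4mb, f4mab, f4maab, h11, hz 19 (by omega)] using g7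
  exact hle hg

theorem eq_bot_of_disjoint {G : Type*} [Group G] (N T : Subgroup G) (h : N.subgroupOf T = ⊥)
    (hsq : ∀ g : G, g * g ∈ T) (hinv : ∀ g : G, g * g = 1 → g ∈ T) : N = ⊥ := by
  rw [Subgroup.eq_bot_iff_forall]
  intro g hg
  have key : ∀ x : G, x ∈ N → x ∈ T → x = 1 := fun x hx hxT => by
    have h' : (⟨x, hxT⟩ : T) ∈ N.subgroupOf T := hx
    rw [h, Subgroup.mem_bot] at h'
    exact congrArg Subtype.val h'
  exact key g hg (hinv g (key _ (mul_mem hg hg) (hsq g)))

set_option maxHeartbeats 1000000 in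
/-- The stabilizer is `²F₄(2)`, compatibly with the vectors. -/
theorem exists_iso : ∃ e : ↥G2 ≃* MM, (∀ g : ↥G2, Act g (e g)) ∧
    ∀ m n : MM, (∀ x ∈ DS, m • x = n • x) → m = n := by
  classical
  let X := {x : Pt // x ∈ DS}
  let ψ : MM →* Equiv.Perm X :=
    { toFun := fun m => ⟨fun x => ⟨m • x.1, smul_DS.2 x.2⟩, fun x => ⟨m⁻¹ • x.1, smul_DS.2 x.2⟩,
        fun x => Subtype.ext (inv_smul_smul m x.1), fun x => Subtype.ext (smul_inv_smul m x.1)⟩
      map_one' := Equiv.ext fun x => Subtype.ext (one_smul MM x.1)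
      map_mul' := fun m n => Equiv.ext fun x => Subtype.ext (mul_smul m n x.1) }
  have huniq : ∀ {g : GL chevF4.Idx (ZMod 2)} {m n : MM}, Act g m → Act g n → ψ m = ψ n := fun a b =>
    Equiv.ext fun x => Subtype.ext (V_inj (smul_DS.2 x.2) (smul_DS.2 x.2) ((a x.1 x.2).symm.trans (b x.1 x.2)))
  choose f hf using fun g : ↥G2 => exists_act g.1 g.2
  let φ : ↥G2 →* Equiv.Perm X :=
    { toFun := fun g => ψ (f g)
      map_one' := (huniq (hf 1) Act.one).trans (map_one ψ)
      map_mul' := fun g h => (huniq (hf (g * h)) ((hf g).mul (hf h))).trans (map_mul ψ _ _) }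
  have hφ : Function.Injective φ := by
    rw [← MonoidHom.ker_eq_bot_iff]
    have hkfix : ∀ g : ↥G2, g ∈ φ.ker → ∀ x ∈ DS,
        (g.1 : Matrix chevF4.Idx chevF4.Idx (ZMod 2)) *ᵥ V x = V x := fun g hg x hx => by
      have e : ψ (f g) ⟨x, hx⟩ = ⟨x, hx⟩ := by
        rw [show ψ (f g) = 1 from MonoidHom.mem_ker.1 hg]; rfl
      rw [hf g x hx, show f g • x = x from congrArg Subtype.val e]
    haveI : IsSimpleGroup ↥(commutator ↥G2) := simple_tits
    have hbot : φ.ker.subgroupOf (commutator ↥G2) = ⊥ := by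
      refine (Subgroup.Normal.subgroupOf inferInstance _).eq_bot_or_eq_top.resolve_right fun htop => ?_
      have hinv : (⟨Wd [33, 24], mem24⟩ : ↥G2) * ⟨Wd [33, 24], mem24⟩ = 1 := by
        refine Subtype.ext ?_
        show Wd [33, 24] * Wd [33, 24] = 1
        rw [← Wd_append, ← Wd_nil]
        exact Wd_eq_of_eqChk (by decide +kernel)
      have hk : (⟨Wd [33, 24], mem24⟩ : ↥G2) ∈ φ.ker :=
        Subgroup.subgroupOf_eq_top.1 htop (mem_commutator_of_mul_self hinv)
      have hmoved : ∃ x : Pt, x ∈ DS ∧ evalW [33, 24] (vecOf x) < 2 ^ 52 ∧ evalW [33, 24] (vecOf x) ≠ vecOf x := by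
        refine ⟨⟨67, by norm_num⟩, ?_⟩
        rw [DS, mem_mset]
        decide +kernel
      obtain ⟨x, hx, hlt, hne⟩ := hmoved
      have := hkfix _ hk x hx
      rw [V, Wd_phi (by decide) (vecOf x)] at this
      exact hne (phi_injOn hlt (vec_lt _) this)
    refine eq_bot_of_disjoint _ (commutator ↥G2) hbot (fun g => ?_) fun g h2 => mem_commutator_of_mul_self h2
    have h := Subgroup.pow_index_mem (commutator ↥G2) g
    rw [index_commutator, pow_two] at h
    exact h
  have hle : φ.range ≤ ψ.range := by rintro _ ⟨g, rfl⟩; exact ⟨f g, rfl⟩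
  have h1 : Nat.card ↥φ.range = 35942400 := by
    rw [← Nat.card_congr (MonoidHom.ofInjective hφ).toEquiv, card_G2]; norm_num
  have h2 := Subgroup.card_le_of_le hle
  have hψ : Function.Injective ψ := by
    have hb := Function.Surjective.bijective_of_nat_card_le ψ.rangeRestrict_surjective (by rw [natCard_MM]; omega)
    exact fun a b e => hb.1 (Subtype.ext e)
  have heq : φ.range = ψ.range := Subgroup.eq_of_le_of_card_ge hle (by
    rw [← Nat.card_congr (MonoidHom.ofInjective hψ).toEquiv, natCard_MM, h1])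
  let e : ↥G2 ≃* MM := (MonoidHom.ofInjective hφ).trans
    ((MulEquiv.subgroupCongr heq).trans (MonoidHom.ofInjective hψ).symm)
  refine ⟨e, fun g x hx => ?_, fun m n h => hψ (Equiv.ext fun x => Subtype.ext (h x.1 x.2))⟩
  have he : ψ (e g) = φ g := by
    have : MonoidHom.ofInjective hψ (e g) = MulEquiv.subgroupCongr heq (MonoidHom.ofInjective hφ g) :=
      MulEquiv.apply_symm_apply _ _
    exact congrArg Subtype.val this
  rw [hf g x hx, show e g • x = f g • x from congrArg Subtype.val (Equiv.ext_iff.1 he ⟨x, hx⟩)]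

/-- the isomorphism -/
noncomputable def isoMM : ↥G2 ≃* MM := exists_iso.choose

theorem isoMM_act (g : ↥G2) : Act g (isoMM g) := exists_iso.choose_spec.1 g

theorem eq_of_DS {m n : MM} (h : ∀ x ∈ DS, m • x = n • x) : m = n := exists_iso.choose_spec.2 m n h

end CfsgLib.RuRec
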