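import Cfsg.Agent.Lib.RuRec.CheckPerm
import Cfsg.Agent.Lib.RuRec.CheckRowsA
import Cfsg.Agent.Lib.RuRec.CheckRowsB
import Cfsg.Agent.Lib.RuRec.CheckOrbits
import Cfsg.Agent.Lib.RuGroup.Main

/-!
The action on 4060 points with the orbital graph of valency 1755.
-/

set_option autoImplicit false
set_option maxRecDepth 20000

namespace CfsgLib.RuRec

open CfsgLib.CosetEnum CfsgLib.RuGroup MulAction
open scoped Pointwise

attribute [local irreducible] half0Mask ssMask rows pImg lineImg

/-- the points -/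
abbrev Pt : Type := Fin 4060

/-- the group -/
abbrev GG : Type := ↥RuP

/-- the stabilizer of the first point -/
abbrev MM : Type := ↥(stabilizer GG (0 : Pt))

instance : IsPretransitive GG Pt := ruP_pretransitive

theorem allUp_pt {f : ℕ → Bool} (h : allUp f 12 0 = true) (x : Pt) : f x = true :=
  allUp_spec h x (Nat.zero_le _) (by have := x.2; omega)

theorem pImg_eq {g : ℕ} (hg : g < 9) (x : Pt) : pImg g x = lineImg g x := by
  have h : permOK g = true := by
    interval_cases g
    exacts [perm0, perm1, perm2, perm3, perm4, perm5, perm6, perm7, perm8]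
  have h' := allUp_pt h x
  simp only [strict_eq, show ltB (x : ℕ) 4060 = true from ltB_iff.mpr x.2, pick_true] at h'
  exact Nat.eq_of_beq_eq_true h'

/-- the element of a word -/
noncomputable def we (w : List ℕ) : GG :=
  ⟨(w.map lineGen).prod, list_prod_mem fun x hx => by
    obtain ⟨g, -, rfl⟩ := List.mem_map.1 hx
    exact lineGen_mem g⟩

theorem pWord_cons (g : ℕ) (w : List ℕ) (x : ℕ) : pWord (g :: w) x = pImg g (pWord w x) := rfl

theorem we_smul {w : List ℕ} (hw : ∀ g ∈ w, g < 9) (x : Pt) : ((we w • x : Pt) : ℕ) = pWord w x := by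
  induction w with
  | nil => rfl
  | cons g w ih =>
    obtain ⟨hg, hw'⟩ := List.forall_mem_cons.1 hw
    rw [show we (g :: w) = ⟨lineGen g, lineGen_mem g⟩ * we w from Subtype.ext List.prod_cons, mul_smul,
      show (((⟨lineGen g, lineGen_mem g⟩ : GG) • (we w • x) : Pt) : ℕ) = lineImg g ((we w • x : Pt) : ℕ) from
        lineGen_apply (by omega) _, pWord_cons, ← ih hw', pImg_eq hg]

theorem we_append (v w : List ℕ) : we (v ++ w) = we v * we w :=
  Subtype.ext (show ((v ++ w).map lineGen).prod = (v.map lineGen).prod * (w.map lineGen).prod by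
    rw [List.map_append, List.prod_append])

theorem we_nil : we [] = 1 := Subtype.ext rfl

/-- only letters fixing the first point -/
def SL (w : List ℕ) : Prop := ∀ g ∈ w, 1 < g ∧ g < 9

theorem SL.lt {w : List ℕ} (h : SL w) : ∀ g ∈ w, g < 9 := fun g hg => (h g hg).2

theorem SL.append {v w : List ℕ} (hv : SL v) (hw : SL w) : SL (v ++ w) := fun g hg =>
  (List.mem_append.1 hg).elim (hv g) (hw g)

theorem SL.nil : SL [] := fun _ h => absurd h List.not_mem_nil

theorem SL.rep {w : List ℕ} (h : SL w) (n : ℕ) : SL (rep w n) := fun g hg => by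
  obtain ⟨l, hl, hgl⟩ := List.mem_flatten.1 hg
  exact h g ((List.eq_of_mem_replicate hl) ▸ hgl)

theorem sl_of {ws : List (List ℕ)} (h : stabLetters ws = true) {w : List ℕ} (hw : w ∈ ws) : SL w := fun g hg => by
  simp only [stabLetters, List.all_eq_true, Bool.and_eq_true, ltB_iff] at h
  exact h w hw g hg

theorem we_fix {w : List ℕ} (hw : SL w) : we w • (0 : Pt) = 0 := by
  induction w with
  | nil => rw [we_nil, one_smul]
  | cons g w ih =>
    obtain ⟨hg, hw'⟩ := List.forall_mem_cons.1 hw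
    rw [show we (g :: w) = ⟨lineGen g, lineGen_mem g⟩ * we w from Subtype.ext List.prod_cons, mul_smul, ih hw']
    exact (gen_stab (g := g) (by
      simp only [List.mem_cons, List.not_mem_nil, or_false]; omega)).2

/-- the element of the stabilizer of a word -/
noncomputable def md (w : List ℕ) : MM :=
  if h : we w • (0 : Pt) = 0 then ⟨we w, h⟩ else 1

theorem md_coe {w : List ℕ} (hw : SL w) : (md w : GG) = we w := by
  rw [md, dif_pos (we_fix hw)]

theorem md_smul {w : List ℕ} (hw : SL w) (x : Pt) : ((md w • x : Pt) : ℕ) = pWord w x := by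
  show (((md w : GG) • x : Pt) : ℕ) = _
  rw [md_coe hw, we_smul hw.lt]

theorem md_append {v w : List ℕ} (hv : SL v) (hw : SL w) : md (v ++ w) = md v * md w :=
  Subtype.ext (by rw [Subgroup.coe_mul, md_coe hv, md_coe hw, md_coe (hv.append hw), we_append])

theorem md_nil : md [] = 1 := Subtype.ext (by rw [md_coe SL.nil, we_nil]; rfl)

theorem md_rep {w : List ℕ} (hw : SL w) : ∀ n, md (rep w n) = md w ^ n
  | 0 => md_nil
  | n + 1 => by
    rw [show rep w (n + 1) = w ++ rep w n by simp [rep, List.replicate_succ], md_append hw (hw.rep n),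
      md_rep hw n, pow_succ']

theorem mm_fix (g : MM) : g • (0 : Pt) = 0 := g.2

theorem mm_ext {g h : MM} (e : ∀ x : Pt, g • x = h • x) : g = h :=
  Subtype.ext (Subtype.ext (Equiv.ext e))

/-- a word moving 1 to 2 -/
def p12W : List ℕ := [3, 5, 7, 2, 3]

/-- the point 65 -/
def d0 : Pt := ⟨65, by norm_num⟩

/-- the point 1 -/
def p1 : Pt := ⟨1, by norm_num⟩

/-- the point 2 -/
def q2 : Pt := ⟨2, by norm_num⟩

theorem levels : ∃ L0 L1 L2 L3, fullLevels = [L0, L1, L2, L3] ∧ L0.pt = 0 ∧ L1.pt = 65 ∧ L2.pt = 2 ∧ L3.pt = 1 ∧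
    levGrp [L1, L2, L3] = Subgroup.closure (lineGen '' {g | g ∈ [2, 3, 4, 5, 6, 7, 8]}) ∧
    levGrp [L2, L3] = Subgroup.closure (lineGen '' {g | g ∈ [4, 5, 6, 7, 8]}) ∧
    levGrp [L3] = Subgroup.closure (lineGen '' {g | g ∈ [6, 7, 8]}) :=
  ⟨_, _, _, _, rfl, rfl, rfl, rfl, rfl, rfl, rfl, rfl⟩

theorem tail_chain {f : Equiv.Perm Pt} (hf : f ∈ RuP) (h0 : f 0 = 0) :
    f ∈ Subgroup.closure (lineGen '' {g | g ∈ [2, 3, 4, 5, 6, 7, 8]}) ∧
      (f d0 = d0 → f ∈ Subgroup.closure (lineGen '' {g | g ∈ [4, 5, 6, 7, 8]}) ∧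
        (f q2 = q2 → f ∈ Subgroup.closure (lineGen '' {g | g ∈ [6, 7, 8]}) ∧ (f p1 = p1 → f = 1))) := by
  obtain ⟨L0, L1, L2, L3, e, q0, q1, q2', q3, e1, e2, e3⟩ := levels
  have hn := full_facts.1
  have hg := full_facts.2
  have hc := full_card
  have hf' : f ∈ levGrp fullLevels := by rw [order_facts.2.2.2.2]; exact hf
  rw [e] at hn hg hc hf'
  obtain ⟨c1, t1⟩ := stab_eq_tail hn hg hc
  have f1 : f ∈ levGrp [L1, L2, L3] := t1 f hf' (by
    rw [show (⟨L0.pt, (grow_facts (hg L0 List.mem_cons_self)).1⟩ : Pt) = 0 from Fin.ext q0, h0, q0]; rfl)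
  rw [← e1]
  refine ⟨f1, fun h65 => ?_⟩
  have hn1 := (nest_cons hn).1
  have hg1 := fun L hL => hg L (List.mem_cons_of_mem _ hL)
  obtain ⟨c2, t2⟩ := stab_eq_tail hn1 hg1 c1
  have f2 : f ∈ levGrp [L2, L3] := t2 f f1 (by
    rw [show (⟨L1.pt, (grow_facts (hg1 L1 List.mem_cons_self)).1⟩ : Pt) = d0 from Fin.ext q1, h65, q1]; rfl)
  rw [← e2]
  refine ⟨f2, fun h2 => ?_⟩
  have hn2 := (nest_cons hn1).1
  have hg2 := fun L hL => hg1 L (List.mem_cons_of_mem _ hL)
  obtain ⟨c3, t3⟩ := stab_eq_tail hn2 hg2 c2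
  have f3 : f ∈ levGrp [L3] := t3 f f2 (by
    rw [show (⟨L2.pt, (grow_facts (hg2 L2 List.mem_cons_self)).1⟩ : Pt) = q2 from Fin.ext q2', h2, q2']; rfl)
  rw [← e3]
  refine ⟨f3, fun h1 => ?_⟩
  have hn3 := (nest_cons hn2).1
  have hg3 := fun L hL => hg2 L (List.mem_cons_of_mem _ hL)
  obtain ⟨-, t4⟩ := stab_eq_tail hn3 hg3 c3
  have f4 : f ∈ levGrp [] := t4 f f3 (by
    rw [show (⟨L3.pt, (grow_facts (hg3 L3 List.mem_cons_self)).1⟩ : Pt) = p1 from Fin.ext q3, h1, q3]; rfl)
  exact Subgroup.mem_bot.1 f4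

/-- an element fixing the four points is trivial -/
theorem eq_one_of_four {m : MM} (h65 : m • d0 = d0) (h2 : m • q2 = q2) (h1 : m • p1 = p1) : m = 1 :=
  Subtype.ext (Subtype.ext ((((tail_chain m.1.2 m.2).2 h65).2 h2).2 h1))

theorem sameW_spec {v w : List ℕ} (hv : SL v) (hw : SL w) (h : sameW v w = true) : md v = md w := by
  simp only [sameW, Bool.and_eq_true, List.all_eq_true, List.mem_cons, List.not_mem_nil, or_false,
    forall_eq_or_imp, forall_eq] at h
  obtain ⟨-, -, h65, h2, h1⟩ := h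
  have key : ∀ x : Pt, Nat.beq (pWord v x) (pWord w x) = true → ((md w)⁻¹ * md v) • x = x := fun x hx => by
    rw [mul_smul, inv_smul_eq_iff]
    exact Fin.ext (by rw [md_smul hv, md_smul hw]; exact Nat.eq_of_beq_eq_true hx)
  exact (inv_mul_eq_one.1 (eq_one_of_four (key d0 h65) (key q2 h2) (key p1 h1))).symm

theorem sameW_ne {v w : List ℕ} (hv : SL v) (hw : SL w) (h : sameW v w = false) : md v ≠ md w := fun e => by
  have : sameW v w = true := by
    simp only [sameW, Bool.and_eq_true, List.all_eq_true, ltB_iff]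
    refine ⟨⟨hv.lt, hw.lt⟩, fun x hx => ?_⟩
    have hx' : x < 4060 := by
      simp only [List.mem_cons, List.not_mem_nil, or_false] at hx
      omega
    rw [show pWord v x = pWord w x by
      rw [← md_smul hv ⟨x, hx'⟩, ← md_smul hw ⟨x, hx'⟩, e]]
    exact Nat.beq_refl _
  rw [h] at this
  exact Bool.false_ne_true this

/-- the points of a mask -/
def mset (m : ℕ) : Finset Pt := Finset.univ.filter fun x => m.testBit x = true

theorem mem_mset {m : ℕ} {x : Pt} : x ∈ mset m ↔ m.testBit x = true := by simp [mset]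

theorem card_mset (m : ℕ) : (mset m).card = popc m 4060 := by
  rw [CfsgLib.CosetEnum.popc_eq, ← Finset.card_map Fin.valEmbedding]
  congr 1
  ext y
  simp only [Finset.mem_map, mem_mset, Fin.valEmbedding_apply, Finset.mem_filter, Finset.mem_range]
  exact ⟨fun ⟨z, hz, e⟩ => e ▸ ⟨z.2, hz⟩, fun ⟨h1, h2⟩ => ⟨⟨y, h1⟩, h2, rfl⟩⟩

theorem mset_and (m m' : ℕ) : mset (m &&& m') = mset m ∩ mset m' := by
  ext x; simp [mem_mset, Nat.testBit_and]

theorem mset_or (m m' : ℕ) : mset (m ||| m') = mset m ∪ mset m' := by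
  ext x; simp [mem_mset, Nat.testBit_or]

theorem mset_two_pow {k : ℕ} (x : Pt) (hx : (x : ℕ) = k) : mset (2 ^ k) = {x} := by
  ext y
  rw [mem_mset, Nat.testBit_two_pow, decide_eq_true_eq, Finset.mem_singleton, Fin.ext_iff, hx]
  exact eq_comm

/-- the suborbit of length 1755 -/
def DS : Finset Pt := mset half0Mask

/-- the suborbit of length 2304 -/
def SS : Finset Pt := mset ssMask

theorem natCard_GG : Nat.card GG = 145926144000 := order_facts.2.1

theorem natCard_MM : Nat.card MM = 35942400 := by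
  have h := Subgroup.index_mul_card (stabilizer GG (0 : Pt))
  rw [index_stabilizer_of_transitive, Nat.card_fin, natCard_GG] at h
  have h' : 4060 * Nat.card MM = 145926144000 := h
  omega

theorem split_facts : (∀ x : Pt, x = 0 ∨ x ∈ DS ∨ x ∈ SS) ∧ Disjoint DS SS ∧ (0 : Pt) ∉ DS ∧ (0 : Pt) ∉ SS ∧
    SS.card = 2304 := by
  have h := split_ok
  simp only [splitOK, Bool.and_eq_true, Bool.not_eq_true'] at h
  obtain ⟨⟨⟨⟨h1, h2⟩, h3⟩, h4⟩, h5⟩ := h
  refine ⟨fun x => ?_, ?_, ?_, ?_, (card_mset _).trans (Nat.eq_of_beq_eq_true h5)⟩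
  · have e := congrArg (fun n => n.testBit (x : ℕ)) (Nat.eq_of_beq_eq_true h1)
    simp only [fullM, Nat.testBit_two_pow_sub_one, Nat.testBit_or, x.2, decide_true, Bool.or_eq_true] at e
    rcases e with (e | e) | e
    · exact Or.inr (Or.inl (mem_mset.2 e))
    · exact Or.inr (Or.inr (mem_mset.2 e))
    · refine Or.inl (Fin.ext ?_)
      rw [← pow_zero 2, Nat.testBit_two_pow, decide_eq_true_eq] at e
      exact e.symm
  · rw [Finset.disjoint_left]
    intro x hx hx'
    have e := congrArg (fun n => n.testBit (x : ℕ)) (Nat.eq_of_beq_eq_true h2)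
    simp only [Nat.testBit_and, mem_mset.1 hx, mem_mset.1 hx', Bool.and_self, Nat.zero_testBit] at e
    exact Bool.noConfusion e
  · rw [DS, mem_mset]; simpa using h3
  · rw [SS, mem_mset]; simpa using h4

theorem pt_cases (x : Pt) : x = 0 ∨ x ∈ DS ∨ x ∈ SS := split_facts.1 x

theorem card_DS : DS.card = 1755 := by
  have h := Finset.card_univ (α := Pt)
  have e : (Finset.univ : Finset Pt) = insert (0 : Pt) (DS ∪ SS) := by
    ext x
    simp only [Finset.mem_univ, Finset.mem_insert, Finset.mem_union, true_iff]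
    exact pt_cases x
  rw [e, Finset.card_insert_of_notMem (by simp [split_facts.2.2.1, split_facts.2.2.2.1]),
    Finset.card_union_of_disjoint split_facts.2.1, split_facts.2.2.2.2, Fintype.card_fin] at h
  omega

theorem card_SS : SS.card = 2304 := split_facts.2.2.2.2

/-! ### Orbits of small subgroups -/

theorem reach_orbit {ws : List (List ℕ)} (hws : ∀ w ∈ ws, SL w) : ∀ (es : List (ℕ × ℕ)) (m m' : ℕ),
    reachW ws es m = some m' → ∀ r : Pt, (∀ y : Pt, m.testBit y = true →
      ∃ g ∈ Subgroup.closure {z | ∃ w ∈ ws, md w = z}, g • r = y) →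
    ∀ y : Pt, m'.testBit y = true → ∃ g ∈ Subgroup.closure {z | ∃ w ∈ ws, md w = z}, g • r = y
  | [], m, m', h, r, hm => by simp only [reachW, Option.some.injEq] at h; exact h ▸ hm
  | (x, i) :: es, m, m', h, r, hm => by
    unfold reachW at h
    cases hc : (Nat.testBit m x && Nat.blt x 4060 && Nat.blt i ws.length)
    · simp [hc] at h
    · simp only [hc, cond_true] at h
      simp only [Bool.and_eq_true, Nat.blt_eq] at hc
      refine reach_orbit hws es _ m' h r fun y hy => ?_
      rw [Nat.testBit_or, Bool.or_eq_true, Nat.testBit_two_pow, decide_eq_true_eq] at hy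
      rcases hy with hy | hy
      · exact hm y hy
      · obtain ⟨g, hg, e⟩ := hm ⟨x, hc.1.2⟩ hc.1.1
        have hw : ws.getD i [] ∈ ws := by rw [List.getD_eq_getElem _ _ hc.2]; exact List.getElem_mem _
        refine ⟨md (ws.getD i []) * g, mul_mem (Subgroup.subset_closure ⟨_, hw, rfl⟩) hg, ?_⟩
        rw [mul_smul, e]
        exact Fin.ext ((md_smul (hws _ hw) _).trans hy)

theorem reach_start (ws : List (List ℕ)) : ∀ (es : List (ℕ × ℕ)) (m m' : ℕ), reachW ws es m = some m' →
    ∀ y, m.testBit y = true → m'.testBit y = true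
  | [], m, m', h, y, hy => by simp only [reachW, Option.some.injEq] at h; exact h ▸ hy
  | (x, i) :: es, m, m', h, y, hy => by
    unfold reachW at h
    cases hc : (Nat.testBit m x && Nat.blt x 4060 && Nat.blt i ws.length)
    · simp [hc] at h
    · simp only [hc, cond_true] at h
      exact reach_start ws es _ m' h y (by rw [Nat.testBit_or, hy, Bool.true_or])

theorem testBit_foldr (l : List ℕ) (x : ℕ) :
    (l.foldr Nat.lor 0).testBit x = true ↔ ∃ m ∈ l, m.testBit x = true := by
  induction l with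
  | nil => simp
  | cons a l ih =>
    rw [List.foldr_cons, show Nat.lor a (l.foldr Nat.lor 0) = a ||| l.foldr Nat.lor 0 from rfl,
      Nat.testBit_or, Bool.or_eq_true, ih]
    simp

theorem sum_getD {l : List ℕ} {n : ℕ} (h : l.length = n) : ∑ i : Fin n, l.getD i 0 = l.sum := by
  subst h
  rw [← Fin.sum_univ_getElem]
  exact Finset.sum_congr rfl fun i _ => List.getD_eq_getElem _ _ i.2

theorem disjoint_of_card {ι α : Type*} [Fintype ι] [DecidableEq α] (O : ι → Finset α) {U : Finset α}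
    (hcov : ∀ x ∈ U, ∃ i, x ∈ O i) (hsum : ∑ i, (O i).card = U.card) :
    ∀ i j, i ≠ j → Disjoint (O i) (O j) := by
  classical
  intro i j hij
  rw [Finset.disjoint_left]
  intro x hxi hxj
  have hsub : U ⊆ ((O i).erase x) ∪ (Finset.univ.erase i).biUnion O := by
    intro z hz
    obtain ⟨k, hk⟩ := hcov z hz
    simp only [Finset.mem_union, Finset.mem_erase, Finset.mem_biUnion]
    by_cases hki : k = i
    · subst hki
      by_cases hzx : z = x
      · subst hzx; exact Or.inr ⟨j, ⟨hij.symm, Finset.mem_univ _⟩, hxj⟩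
      · exact Or.inl ⟨hzx, hk⟩
    · exact Or.inr ⟨k, ⟨hki, Finset.mem_univ _⟩, hk⟩
  have h1 := Finset.card_le_card hsub
  have h2 := Finset.card_union_le ((O i).erase x) ((Finset.univ.erase i).biUnion O)
  have h3 : ((Finset.univ.erase i).biUnion O).card ≤ ∑ k ∈ Finset.univ.erase i, (O k).card := Finset.card_biUnion_le
  have h4 := Finset.add_sum_erase Finset.univ (fun k => (O k).card) (Finset.mem_univ i)
  have h5 : ((O i).erase x).card + 1 = (O i).card := Finset.card_erase_add_one hxi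
  try simp only at h4
  omega

theorem orbs_spec {ws : List (List ℕ)} {dom : ℕ} {reps masks sizes : List ℕ}
    {trees : List (List (ℕ × ℕ))} (h : orbsOK ws dom reps masks sizes trees = true) :
    (∀ w ∈ ws, SL w) ∧ ∃ O : Fin reps.length → Finset Pt,
      (∀ i : Fin reps.length, O i = mset (masks.getD i 0)) ∧ (∀ i : Fin reps.length, (O i).card = sizes.getD i 0) ∧
      (∀ x ∈ mset dom, ∃ i, x ∈ O i) ∧ (∀ i, O i ⊆ mset dom) ∧
      (∀ i j, i ≠ j → Disjoint (O i) (O j)) ∧
      ∀ i : Fin reps.length, ∃ r : Pt, (r : ℕ) = reps.getD i 0 ∧ r ∈ O i ∧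
        ∀ x ∈ O i, ∃ g ∈ Subgroup.closure {z | ∃ w ∈ ws, md w = z}, g • r = x := by
  classical
  simp only [orbsOK, Bool.and_eq_true, List.all_eq_true, List.mem_range, Nat.blt_eq, beq_iff_eq] at h
  obtain ⟨⟨⟨⟨⟨hw, hml⟩, hsl⟩, hall⟩, hun⟩, hsum⟩ := h
  have hml' := Nat.eq_of_beq_eq_true hml
  have hsl' := Nat.eq_of_beq_eq_true hsl
  have hws : ∀ w ∈ ws, SL w := fun w hw' => sl_of hw hw'
  refine ⟨hws, fun i => mset (masks.getD i 0), fun i => rfl,
    fun i => (card_mset _).trans (Nat.eq_of_beq_eq_true (hall i i.2).2), ?_⟩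
  have hun' := Nat.eq_of_beq_eq_true hun
  have hcov : ∀ x ∈ mset dom, ∃ i : Fin reps.length, x ∈ mset (masks.getD i 0) := by
    intro x hx
    rw [mem_mset, ← hun', testBit_foldr] at hx
    obtain ⟨m, hm, hx⟩ := hx
    obtain ⟨k, hk, rfl⟩ := List.mem_iff_getElem.1 hm
    exact ⟨⟨k, hml' ▸ hk⟩, by rw [mem_mset, List.getD_eq_getElem _ _ hk]; exact hx⟩
  have hsub : ∀ i : Fin reps.length, mset (masks.getD i 0) ⊆ mset dom := fun i x hx => by
    rw [mem_mset, ← hun', testBit_foldr]
    refine ⟨_, ?_, mem_mset.1 hx⟩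
    rw [List.getD_eq_getElem _ _ (hml'.symm ▸ i.2)]
    exact List.getElem_mem _
  refine ⟨hcov, hsub, ?_, fun i => ?_⟩
  · refine disjoint_of_card (fun i : Fin reps.length => mset (masks.getD i 0)) hcov ?_
    calc ∑ i : Fin reps.length, (mset (masks.getD i 0)).card
        = ∑ i : Fin reps.length, sizes.getD i 0 :=
          Finset.sum_congr rfl fun i _ => (card_mset _).trans (Nat.eq_of_beq_eq_true (hall i i.2).2)
      _ = sizes.sum := sum_getD hsl'
      _ = (mset dom).card := (Nat.eq_of_beq_eq_true hsum).trans (card_mset dom).symm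
  · obtain ⟨⟨hr, hre⟩, -⟩ := hall i i.2
    refine ⟨⟨reps.getD i 0, hr⟩, rfl, ?_, fun x hx => ?_⟩
    · rw [mem_mset]
      refine (reach_start _ _ _ _ hre) _ ?_
      rw [Nat.testBit_two_pow, decide_eq_true_eq]
    · refine reach_orbit hws _ _ _ hre ⟨reps.getD i 0, hr⟩ (fun y hy => ?_) x (mem_mset.1 hx)
      rw [Nat.testBit_two_pow, decide_eq_true_eq] at hy
      exact ⟨1, one_mem _, by rw [one_smul]; exact Fin.ext hy⟩

/-- An invariant set is a union of the orbits. -/
theorem union_of_inv {ws : List (List ℕ)} {n : ℕ} {O : Fin n → Finset Pt} {T : Finset Pt}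
    (hO : ∀ i, ∃ r : Pt, r ∈ O i ∧ ∀ x ∈ O i, ∃ g ∈ Subgroup.closure {z | ∃ w ∈ ws, md w = z}, g • r = x)
    (hinv : ∀ w ∈ ws, ∀ x ∈ T, md w • x ∈ T) (i : Fin n) : O i ⊆ T ∨ Disjoint (O i) T := by
  classical
  have hst : Subgroup.closure {z | ∃ w ∈ ws, md w = z} ≤ stabilizer MM T := by
    rw [Subgroup.closure_le]
    rintro _ ⟨w, hw, rfl⟩
    exact Finset.eq_of_subset_of_card_le (fun x hx => by
      obtain ⟨y, hy, rfl⟩ := Finset.mem_smul_finset.1 hx
      exact hinv w hw y hy) (by rw [Finset.card_smul_finset])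
  obtain ⟨r, -, hr⟩ := hO i
  have key : ∀ x ∈ O i, (x ∈ T ↔ r ∈ T) := fun x hx => by
    obtain ⟨g, hg, rfl⟩ := hr x hx
    conv_lhs => rw [← mem_stabilizer_iff.1 (hst hg)]
    exact Finset.smul_mem_smul_finset_iff g
  by_cases h : r ∈ T
  · exact Or.inl fun x hx => (key x hx).2 h
  · exact Or.inr (Finset.disjoint_left.2 fun x hx hx' => h ((key x hx).1 hx'))

theorem exists_sel {ws : List (List ℕ)} {dom : ℕ} {reps masks sizes : List ℕ}
    {trees : List (List (ℕ × ℕ))} (h : orbsOK ws dom reps masks sizes trees = true) {T : Finset Pt}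
    (hT : T ⊆ mset dom) (hinv : ∀ w ∈ ws, ∀ x ∈ T, md w • x ∈ T) :
    ∃ J : Finset (Fin reps.length), T = J.biUnion (fun i => mset (masks.getD i 0)) ∧
      T.card = ∑ i ∈ J, sizes.getD i 0 := by
  classical
  obtain ⟨-, O, hOm, hOc, hcov, -, hdis, hrep⟩ := orbs_spec h
  have hu := fun i => union_of_inv (O := O) (fun i => by
    obtain ⟨r, -, h2, h3⟩ := hrep i
    exact ⟨r, h2, h3⟩) hinv i
  let J : Finset (Fin reps.length) := Finset.univ.filter fun i => O i ⊆ T
  have hTJ : T = J.biUnion O := by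
    ext x
    simp only [J, Finset.mem_biUnion, Finset.mem_filter, Finset.mem_univ, true_and]
    refine ⟨fun hx => ?_, fun ⟨i, hi, hx⟩ => hi hx⟩
    obtain ⟨i, hi⟩ := hcov x (hT hx)
    exact ⟨i, (hu i).resolve_right fun hd => Finset.disjoint_left.1 hd hi hx, hi⟩
  refine ⟨J, ?_, ?_⟩
  · rw [hTJ]; exact Finset.biUnion_congr rfl fun i _ => hOm i
  · rw [hTJ, Finset.card_biUnion fun i _ j _ hij => hdis i j hij]
    exact Finset.sum_congr rfl fun i _ => hOc i

/-! ### The two suborbits -/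

theorem d0_mem : d0 ∈ DS := by
  rw [DS, mem_mset]
  have h : half0Mask.testBit 65 = true := by decide +kernel
  exact h

theorem p1_mem : p1 ∈ SS := by
  rw [SS, mem_mset]
  have h : ssMask.testBit 1 = true := by decide +kernel
  exact h

theorem smul_DS' (g : MM) {x : Pt} (hx : x ∈ DS) : g • x ∈ DS := by
  have hcl : ∀ f ∈ Subgroup.closure (lineGen '' {g | g ∈ [2, 3, 4, 5, 6, 7, 8]}),
      f • DS = DS := by
    show Subgroup.closure _ ≤ stabilizer (Equiv.Perm Pt) DS
    rw [Subgroup.closure_le]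
    rintro _ ⟨k, hk, rfl⟩
    have hk9 : k < 9 := by
      simp only [Set.mem_ofPred_eq, List.mem_cons, List.not_mem_nil, or_false] at hk
      omega
    have hclosed : allUp (fun x => strict x fun x => pick (ltB x 4060 && half0Mask.testBit x)
        ([2, 3, 4, 5, 6, 7, 8].all fun g => half0Mask.testBit (pImg g x)) true) 12 0 = true := by
      decide +kernel
    refine Finset.eq_of_subset_of_card_le (fun y hy => ?_) (by rw [Finset.card_smul_finset])
    obtain ⟨z, hz, rfl⟩ := Finset.mem_smul_finset.1 hy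
    have h := allUp_pt hclosed z
    simp only [strict_eq, show ltB (z : ℕ) 4060 = true from ltB_iff.mpr z.2, mem_mset.1 hz,
      Bool.and_self, pick_true, List.all_eq_true] at h
    rw [DS, mem_mset, show ((lineGen k • z : Pt) : ℕ) = pImg k z from
      (lineGen_apply (by omega) z).trans (pImg_eq hk9 z).symm]
    exact h k hk
  have h := hcl _ (tail_chain g.1.2 g.2).1
  rw [← h]
  exact Finset.smul_mem_smul_finset hx

theorem smul_DS {g : MM} {x : Pt} : g • x ∈ DS ↔ x ∈ DS :=
  ⟨fun h => by have := smul_DS' g⁻¹ h; rwa [inv_smul_smul] at this, smul_DS' g⟩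

theorem smul_SS {g : MM} {x : Pt} : g • x ∈ SS ↔ x ∈ SS := by
  have key : ∀ y : Pt, y ∈ SS ↔ y ≠ 0 ∧ y ∉ DS := fun y => by
    obtain ⟨-, hd, h0, h0', -⟩ := split_facts
    refine ⟨fun h => ⟨fun e => h0' (e ▸ h), fun h' => Finset.disjoint_left.1 hd h' h⟩, fun ⟨a, b⟩ => ?_⟩
    rcases pt_cases y with e | e | e
    exacts [absurd e a, absurd e b, e]
  rw [key, key, smul_DS, ne_eq, ne_eq, smul_eq_iff_eq_inv_smul, mm_fix]

theorem mem_DS {x : Pt} : x ∈ DS ↔ ∃ g : MM, g • d0 = x := by
  constructor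
  · intro hx
    have hL : growOK ⟨65, [2, 3, 4, 5, 6, 7], 1755, half0Tree, half0Mask⟩ = true :=
      half_facts.2 _ (by simp [halfLevels])
    obtain ⟨f, hf, e⟩ := lev_orbit hL x (mem_mset.1 hx)
    have hfs : f ∈ stabZero := half_le_stab hf
    exact ⟨⟨⟨f, hfs.1⟩, hfs.2⟩, e⟩
  · rintro ⟨g, rfl⟩; exact smul_DS.2 d0_mem

theorem closure_fix {ws : List (List ℕ)} (hws : ∀ w ∈ ws, SL w) {x : Pt} (h : fixOK ws x = true) :
    Subgroup.closure {z | ∃ w ∈ ws, md w = z} ≤ stabilizer MM x := by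
  rw [Subgroup.closure_le]
  rintro _ ⟨w, hw, rfl⟩
  simp only [fixOK, List.all_eq_true] at h
  exact Fin.ext ((md_smul (hws w hw) x).trans (Nat.eq_of_beq_eq_true (h w hw)))

theorem mem_SS {x : Pt} : x ∈ SS ↔ ∃ g : MM, g • p1 = x := by
  refine ⟨fun hx => ?_, fun ⟨g, e⟩ => e ▸ smul_SS.2 p1_mem⟩
  classical
  set S := Finset.univ.filter fun y : Pt => ∃ g : MM, g • p1 = y
  have hS : S ⊆ SS := fun y hy => by
    obtain ⟨g, rfl⟩ := (Finset.mem_filter.1 hy).2
    exact smul_SS.2 p1_mem
  obtain ⟨-, O, hOm, -, hcov, -, -, hrep⟩ := orbs_spec wOrbsS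
  obtain ⟨g2, hg2⟩ : ∃ g : MM, g • p1 = q2 := exists_p1_to_q2
  obtain ⟨i, hi⟩ := hcov x hx
  obtain ⟨r, hr, -, hrO⟩ := hrep i
  obtain ⟨g, -, e⟩ := hrO x hi
  have : r = p1 ∨ r = q2 := by
    have hd : ∀ j : Fin wSRep.length, wSRep.getD j.val 0 = 1 ∨ wSRep.getD j.val 0 = 2 := by decide +kernel
    rcases hd i with h | h
    · exact Or.inl (Fin.ext (hr.trans h))
    · exact Or.inr (Fin.ext (hr.trans h))
  rcases this with rfl | rfl
  · exact ⟨g, e⟩
  · exact ⟨g * g2, by rw [mul_smul, hg2, e]⟩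
where
  exists_p1_to_q2 : ∃ g : MM, g • p1 = q2 := by
    refine ⟨md p12W, Fin.ext ?_⟩
    have h : stabLetters [p12W] = true ∧ pWord p12W 1 = 2 := by decide +kernel
    rw [md_smul (sl_of h.1 List.mem_cons_self)]
    exact h.2

/-- adjacency -/
def R0 (x y : Pt) : Prop := ∃ g : GG, g • (0 : Pt) = x ∧ g • d0 = y

noncomputable instance instDecR0 : DecidableRel R0 := fun _ _ => Classical.dec _

theorem R0_smul (g : GG) {x y : Pt} : R0 (g • x) (g • y) ↔ R0 x y := by
  constructor
  · rintro ⟨h, h1, h2⟩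
    exact ⟨g⁻¹ * h, by rw [mul_smul, h1, inv_smul_smul], by rw [mul_smul, h2, inv_smul_smul]⟩
  · rintro ⟨h, h1, h2⟩
    exact ⟨g * h, by rw [mul_smul, h1], by rw [mul_smul, h2]⟩

theorem R0_base (y : Pt) : R0 0 y ↔ y ∈ DS := by
  rw [mem_DS]
  exact ⟨fun ⟨g, h1, h2⟩ => ⟨⟨g, h1⟩, h2⟩, fun ⟨g, e⟩ => ⟨g.1, g.2, e⟩⟩

theorem rows_all {i : ℕ} (h1 : 1 ≤ i) (h2 : i < 156) : rowOK i = true := by
  obtain ⟨j, k, hk, rfl⟩ : ∃ j k, k < 13 ∧ i = k + (13 * j + 1) := ⟨(i - 1) / 13, (i - 1) % 13, by omega, by omega⟩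
  have hj : j < 12 := by omega
  interval_cases j
  · exact List.all_eq_true.1 rows0 k (List.mem_range.2 hk)
  · exact List.all_eq_true.1 rows1 k (List.mem_range.2 hk)
  · exact List.all_eq_true.1 rows2 k (List.mem_range.2 hk)
  · exact List.all_eq_true.1 rows3 k (List.mem_range.2 hk)
  · exact List.all_eq_true.1 rows4 k (List.mem_range.2 hk)
  · exact List.all_eq_true.1 rows5 k (List.mem_range.2 hk)
  · exact List.all_eq_true.1 rows6 k (List.mem_range.2 hk)
  · exact List.all_eq_true.1 rows7 k (List.mem_range.2 hk)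
  · exact List.all_eq_true.1 rows8 k (List.mem_range.2 hk)
  · exact List.all_eq_true.1 rows9 k (List.mem_range.2 hk)
  · exact List.all_eq_true.1 rows10 k (List.mem_range.2 hk)
  · exact List.all_eq_true.1 rows11 k (List.mem_range.2 (by omega))

theorem row_spec : ∀ i < rows.length, ∀ x : Pt, (x : ℕ) = rowPts.getD i 0 →
    ∀ y : Pt, (rows.getD i 0).testBit y = true ↔ R0 x y := by
  intro i
  induction i using Nat.strong_induction_on with
  | _ i ih =>
    intro hi x hx y
    rw [rows_head.1] at hi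
    rcases Nat.eq_zero_or_pos i with rfl | hpos
    · rw [rows_head.2.2.2.1]
      obtain rfl : x = 0 := Fin.ext (hx.trans (by
        have h := rows_head.2.2.1
        rw [List.getD_eq_getElem _ _ (by rw [rows_head.2.1]; norm_num)] at h ⊢
        exact h))
      rw [R0_base, DS, mem_mset]
    · have h := rows_all hpos hi
      simp only [rowOK, Bool.and_eq_true, Nat.blt_eq, strict_eq] at h
      obtain ⟨⟨⟨hp, hg⟩, hT⟩, hpop, hall⟩ := h
      set p := (rowPar.getD i (0, 0)).1
      set g := (rowPar.getD i (0, 0)).2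
      have hpl : p < rows.length := by rw [rows_head.1]; omega
      set π : GG := we [g]
      have hπ : ∀ z : Pt, ((π • z : Pt) : ℕ) = pImg g z := fun z => we_smul (by simpa using hg) z
      have hP : rowPts.getD p 0 < 4060 := by
        have := rows_head.2.2.2.2
        simp only [List.all_eq_true, Nat.blt_eq] at this
        exact this _ (by
          rw [List.getD_eq_getElem _ _ (by rw [rows_head.2.1]; omega)]; exact List.getElem_mem _)
      have e : π • (⟨rowPts.getD p 0, hP⟩ : Pt) = x :=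
        Fin.ext ((hπ _).trans ((Nat.eq_of_beq_eq_true hT).trans hx.symm))
      have hrow := ih p hp hpl ⟨rowPts.getD p 0, hP⟩ rfl
      have hsub : (Finset.univ.filter fun y => R0 x y) ⊆ mset (rows.getD i 0) := by
        intro z hz
        have hz' : R0 ⟨rowPts.getD p 0, hP⟩ (π⁻¹ • z) := by
          rw [← R0_smul π, e, smul_inv_smul]; exact (Finset.mem_filter.1 hz).2
        have hs := allUp_pt hall (π⁻¹ • z)
        simp only [rowStep, strict_eq, show ltB ((π⁻¹ • z : Pt) : ℕ) 4060 = true from ltB_iff.mpr (Fin.isLt _),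
          pick_true, (hrow _).2 hz', ← hπ, smul_inv_smul] at hs
        exact mem_mset.2 hs
      have hcard : (Finset.univ.filter fun y => R0 x y).card = 1755 := by
        obtain ⟨k, rfl⟩ := exists_smul_eq GG (0 : Pt) x
        rw [← card_DS]
        refine (Finset.card_bij (fun y _ => k • y) (fun y hy => ?_) (fun y _ y' _ e => by simpa using e)
          fun y hy => ⟨k⁻¹ • y, ?_, smul_inv_smul _ _⟩).symm
        · simp only [Finset.mem_filter, Finset.mem_univ, true_and]
          rw [R0_smul, R0_base]; exact hy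
        · simp only [Finset.mem_filter, Finset.mem_univ, true_and] at hy
          rw [← R0_base, ← R0_smul k, smul_inv_smul]; exact hy
      have heq := Finset.eq_of_subset_of_card_le hsub
        (by rw [card_mset, Nat.eq_of_beq_eq_true hpop, hcard])
      rw [← mem_mset, ← heq]
      simp

end CfsgLib.RuRec
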