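import Cfsg.Agent.Lib.RuRec.Aut

/-!
A rank three group on 4060 points with stabilizer `²F₄(2)` is the group of the graph.
-/

set_option autoImplicit false
set_option maxRecDepth 20000

namespace CfsgLib.RuRec

open Cfsg CfsgLib.CosetEnum CfsgLib.RuGroup MulAction
open scoped Pointwise

attribute [local irreducible] half0Mask ssMask baseL rows pImg lineImg

theorem R0_d0 : R0 d0 0 := by
  have h : (rows.getD pos65 0).testBit 0 = true := by decide +kernel
  exact (row_spec _ nbrs.2.2.1 d0 nbrs.1.symm 0).1 h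

theorem R0_symm : ∀ x y, R0 x y → R0 y x := by
  rintro x y ⟨g, h1, h2⟩
  obtain ⟨k, k1, k2⟩ := R0_d0
  exact ⟨g * k, by rw [mul_smul, k1, h2], by rw [mul_smul, k2, h1]⟩

theorem exists_equivariant {H Ω : Type*} [Group H] [MulAction H Ω] (ε : H ≃* MM) (w : Ω) {i0 : Pt}
    {S : Finset Pt} (hS : ∀ i, i ∈ S ↔ ∃ k : MM, k • i0 = i)
    (h : (stabilizer H w).map ε.toMonoidHom = stabilizer MM i0) :
    ∃ f : Pt → Ω, (∀ i ∈ S, ∀ j ∈ S, f i = f j → i = j) ∧ (∀ y, y ∈ orbit H w ↔ ∃ i ∈ S, f i = y) ∧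
      ∀ (x : H), ∀ i ∈ S, f (ε x • i) = x • f i := by
  classical
  let k : Pt → MM := fun i => if hi : i ∈ S then ((hS i).1 hi).choose else 1
  have hk : ∀ i ∈ S, k i • i0 = i := fun i hi => by simp only [k, dif_pos hi]; exact ((hS i).1 hi).choose_spec
  let f : Pt → Ω := fun i => ε.symm (k i) • w
  have key : ∀ (x : H) i, i ∈ S → ε x • i0 = i → f i = x • w := fun x i hi e => by
    have hm : (k i)⁻¹ * ε x ∈ stabilizer MM i0 := by
      rw [mem_stabilizer_iff, mul_smul, e, inv_smul_eq_iff, hk i hi]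
    rw [← h, Subgroup.mem_map] at hm
    obtain ⟨y, hy, he⟩ := hm
    have : x = ε.symm (k i) * y := ε.injective (by
      rw [map_mul, MulEquiv.apply_symm_apply, show ε y = (k i)⁻¹ * ε x from he, mul_inv_cancel_left])
    rw [this, mul_smul, mem_stabilizer_iff.1 hy]
  refine ⟨f, fun i hi j hj e => ?_, fun y => ?_, fun x i hi => ?_⟩
  · have hm : (ε.symm (k j))⁻¹ * ε.symm (k i) ∈ stabilizer H w := by
      rw [mem_stabilizer_iff, mul_smul, inv_smul_eq_iff]; exact e
    have := Subgroup.mem_map_of_mem ε.toMonoidHom hm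
    rw [h, mem_stabilizer_iff] at this
    simp only [MulEquiv.coe_toMonoidHom, map_mul, map_inv, MulEquiv.apply_symm_apply, mul_smul,
      inv_smul_eq_iff, hk i hi, hk j hj] at this
    exact this
  · constructor
    · rintro ⟨x, rfl⟩
      have hi : ε x • i0 ∈ S := (hS _).2 ⟨_, rfl⟩
      exact ⟨_, hi, key x _ hi rfl⟩
    · rintro ⟨i, -, rfl⟩; exact ⟨_, rfl⟩
  · have hi' : ε x • i ∈ S := by
      obtain ⟨l, hl⟩ := (hS i).1 hi
      exact (hS _).2 ⟨ε x * l, by rw [mul_smul, hl]⟩
    rw [key (x * ε.symm (k i)) _ hi' (by rw [map_mul, MulEquiv.apply_symm_apply, mul_smul, hk i hi]), mul_smul]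

/-- The graph is determined by its invariance and three neighbourhood sizes. -/
theorem rel_unique {R : Pt → Pt → Prop} [DecidableRel R] (hinv : ∀ (g : MM) x y, R (g • x) (g • y) ↔ R x y)
    (hsymm : ∀ x y, R x y → R y x) (h0 : ∀ y, R 0 y ↔ y ∈ DS) (hirr : ¬ R d0 d0)
    (hd : (DS.filter fun y => R d0 y).card = 730) (hp : (DS.filter fun y => R p1 y).card = 780)
    (hs : (SS.filter fun y => R p1 y).card = 975) : ∀ x y, R x y ↔ R0 x y := by
  classical
  have e1 : ∀ (ws : List (List ℕ)) (x : Pt) (D : Finset Pt), (∀ w ∈ ws, SL w) → fixOK ws x = true →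
      (∀ (g : MM) z, g • z ∈ D ↔ z ∈ D) →
      ∀ w ∈ ws, ∀ y ∈ D.filter (fun y => R x y), md w • y ∈ D.filter (fun y => R x y) := by
    intro ws x D hsl hf hD w hw y hy
    rw [Finset.mem_filter] at hy ⊢
    refine ⟨(hD _ y).2 hy.1, ?_⟩
    have := (hinv (md w) x y).2 hy.2
    rwa [show md w • x = x from closure_fix hsl hf (Subgroup.subset_closure ⟨w, hw, rfl⟩)] at this
  have hrow : ∀ (i : ℕ) (x : Pt) (D : ℕ), i < rows.length → rowPts.getD i 0 = (x : ℕ) →
      (mset D).filter (fun y => R0 x y) = mset (rows.getD i 0 &&& D) := by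
    intro i x D hi hx
    ext y
    rw [Finset.mem_filter, mset_and, Finset.mem_inter, mem_mset (m := rows.getD i 0), row_spec i hi x hx.symm y]
    exact and_comm
  obtain ⟨n65, n1, l65, l1, m65D, m65S, m1D, m1S⟩ := nbrs
  obtain ⟨hs1, hs2, hs3, hs4, -, hz, -⟩ := sizes_eq
  have hDD : DS.filter (fun y => R d0 y) = DS.filter (fun y => R0 d0 y) := by
    obtain ⟨hsl, -⟩ := orbs_spec wOrbsD
    obtain ⟨J, hJ, hJc⟩ := exists_sel wOrbsD (T := DS.filter fun y => R d0 y) (Finset.filter_subset _ _)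
      (e1 _ d0 DS hsl fixes.1 fun g z => smul_DS)
    have h0J : (⟨0, by decide +kernel⟩ : Fin wDRep.length) ∉ J := fun h => by
      have : d0 ∈ DS.filter fun y => R d0 y := by
        rw [hJ, Finset.mem_biUnion]
        exact ⟨_, h, by rw [hz, mset_two_pow d0 (show ((d0 : Pt) : ℕ) = 65 from rfl)]; exact Finset.mem_singleton_self _⟩
      exact hirr (Finset.mem_filter.1 this).2
    have hdec : ∀ K : Finset (Fin wDRep.length), (⟨0, by decide +kernel⟩ : Fin wDRep.length) ∉ K →
        ∑ k ∈ K, wDSize.getD k.val 0 = 730 →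
          K = {⟨1, by decide +kernel⟩, ⟨2, by decide +kernel⟩, ⟨3, by decide +kernel⟩} := by decide +kernel
    rw [hJ, hdec J h0J (hJc.symm.trans hd), DS, hrow pos65 d0 _ l65 n65, m65D]
    simp [mset_or, Finset.union_assoc]
  have hPD : DS.filter (fun y => R p1 y) = DS.filter (fun y => R0 p1 y) := by
    obtain ⟨hsl, -⟩ := orbs_spec lOrbsD
    obtain ⟨J, hJ, hJc⟩ := exists_sel lOrbsD (T := DS.filter fun y => R p1 y) (Finset.filter_subset _ _)
      (e1 lW p1 DS hsl fixes.2.1 fun g z => smul_DS)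
    have hdec : ∀ K : Finset (Fin lDRep.length), ∑ k ∈ K, lDSize.getD k.val 0 = 780 →
        K = {⟨0, by decide +kernel⟩} := by decide +kernel
    rw [hJ, hdec J (hJc.symm.trans hp), Finset.singleton_biUnion, DS, hrow pos1 p1 _ l1 n1, m1D]
  have hPS : SS.filter (fun y => R p1 y) = SS.filter (fun y => R0 p1 y) := by
    obtain ⟨hsl, -⟩ := orbs_spec lOrbsS
    obtain ⟨J, hJ, hJc⟩ := exists_sel lOrbsS (T := SS.filter fun y => R p1 y) (Finset.filter_subset _ _)
      (e1 lW p1 SS hsl fixes.2.1 fun g z => smul_SS)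
    have hdec : ∀ K : Finset (Fin lSRep.length), ∑ k ∈ K, lSSize.getD k.val 0 = 975 →
        K = {⟨5, by decide +kernel⟩} := by decide +kernel
    rw [hJ, hdec J (hJc.symm.trans hs), Finset.singleton_biUnion, SS, hrow pos1 p1 _ l1 n1, m1S]
  have key : ∀ x y, x ∈ DS → y ∈ DS → (R x y ↔ R0 x y) := by
    intro x y hx hy
    obtain ⟨g, rfl⟩ := mem_DS.1 hx
    rw [show y = g • (g⁻¹ • y) from (smul_inv_smul _ _).symm, hinv,
      show (R0 (g • d0) (g • g⁻¹ • y) ↔ R0 d0 (g⁻¹ • y)) from R0_smul (g : GG)]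
    have := Finset.ext_iff.1 hDD (g⁻¹ • y)
    simp only [Finset.mem_filter, smul_DS, hy, true_and] at this
    exact this
  have keyS : ∀ x y, x ∈ SS → y ∈ DS ∪ SS → (R x y ↔ R0 x y) := by
    intro x y hx hy
    obtain ⟨g, rfl⟩ := mem_SS.1 hx
    rw [show y = g • (g⁻¹ • y) from (smul_inv_smul _ _).symm, hinv,
      show (R0 (g • p1) (g • g⁻¹ • y) ↔ R0 p1 (g⁻¹ • y)) from R0_smul (g : GG)]
    rcases Finset.mem_union.1 hy with hy | hy
    · have := Finset.ext_iff.1 hPD (g⁻¹ • y)
      simp only [Finset.mem_filter, smul_DS, hy, true_and] at this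
      exact this
    · have := Finset.ext_iff.1 hPS (g⁻¹ • y)
      simp only [Finset.mem_filter, smul_SS, hy, true_and] at this
      exact this
  intro x y
  rcases pt_cases x with rfl | hx | hx
  · rw [h0, R0_base]
  · rcases pt_cases y with rfl | hy | hy
    · exact ((Iff.intro (hsymm _ _) (hsymm _ _)).trans ((h0 x).trans (R0_base x).symm)).trans
        ⟨R0_symm _ _, R0_symm _ _⟩
    · exact key x y hx hy
    · exact ((Iff.intro (hsymm _ _) (hsymm _ _)).trans (keyS y x hy (Finset.mem_union_left _ hx))).trans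
        ⟨R0_symm _ _, R0_symm _ _⟩
  · rcases pt_cases y with rfl | hy | hy
    · exact ((Iff.intro (hsymm _ _) (hsymm _ _)).trans ((h0 x).trans (R0_base x).symm)).trans
        ⟨R0_symm _ _, R0_symm _ _⟩
    · exact keyS x y hx (Finset.mem_union_left _ hy)
    · exact keyS x y hx (Finset.mem_union_right _ hy)

/-- The recognition. -/
theorem equiv_ru {Ω : Type*} [Fintype Ω] [DecidableEq Ω] (hΩ : Fintype.card Ω = 4060)
    (G : Subgroup (Equiv.Perm Ω)) [IsPretransitive G Ω] (a : Ω) (ε : stabilizer G a ≃* MM) (b c : Ω)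
    (hb : (orbit (stabilizer G a) b).ncard = 1755) (hc : (orbit (stabilizer G a) c).ncard = 2304) :
    Cfsg.Spor.IsoRu ↥G := by
  classical
  set H := stabilizer G a
  have card_map : ∀ w : Ω, Nat.card ↥((stabilizer ↥H w).map ε.toMonoidHom) * (orbit ↥H w).ncard = 35942400 := by
    intro w
    rw [← index_stabilizer,
      ← Nat.card_congr ((stabilizer ↥H w).equivMapOfInjective _ ε.injective).toEquiv,
      Subgroup.card_mul_index, Nat.card_congr ε.toEquiv, natCard_MM]
  obtain ⟨i0, hi0, hi0e⟩ := index1755 ((stabilizer ↥H b).map ε.toMonoidHom) (by have := card_map b; rw [hb] at this; omega)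
  have hDS : ∀ i, i ∈ DS ↔ ∃ k : MM, k • i0 = i := fun i => by
    obtain ⟨k0, hk0⟩ := mem_DS.1 hi0
    rw [mem_DS]
    constructor
    · rintro ⟨k, hk⟩; exact ⟨k * k0⁻¹, by rw [← hk0, mul_smul, inv_smul_smul, hk]⟩
    · rintro ⟨k, hk⟩; exact ⟨k * k0, by rw [mul_smul, hk0, hk]⟩
  obtain ⟨fD, fDi, fDr, fDe⟩ := exists_equivariant ε b hDS hi0e
  have hfixa : ∀ x : ↥H, x • a = a := fun x => x.2
  have hane : ∀ w, (orbit ↥H w).ncard ≠ 1 → a ∉ orbit ↥H w := fun w hw ha => hw (by
    rw [← orbit_eq_iff.2 ha, Set.ncard_eq_one]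
    exact ⟨a, Set.eq_singleton_iff_unique_mem.2 ⟨mem_orbit_self a, by rintro _ ⟨x, rfl⟩; exact hfixa x⟩⟩)
  have hab : a ∉ orbit ↥H b := hane b (by omega)
  have hac : a ∉ orbit ↥H c := hane c (by omega)
  set B := (Set.toFinite (orbit ↥H b)).toFinset
  set C := (Set.toFinite (orbit ↥H c)).toFinset
  have mB : ∀ y, y ∈ B ↔ y ∈ orbit ↥H b := fun y => Set.Finite.mem_toFinset _
  have mC : ∀ y, y ∈ C ↔ y ∈ orbit ↥H c := fun y => Set.Finite.mem_toFinset _
  have cB : B.card = 1755 := by rw [← hb, Set.ncard_eq_toFinset_card _ (Set.toFinite _)]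
  have cC : C.card = 2304 := by rw [← hc, Set.ncard_eq_toFinset_card _ (Set.toFinite _)]
  have hBC : Disjoint B C := by
    rw [Finset.disjoint_left]
    intro y h1 h2
    rw [mB] at h1; rw [mC] at h2
    rw [← orbit_eq_iff.2 h1, orbit_eq_iff.2 h2, hc] at hb
    omega
  have hall : ∀ y, y = a ∨ y ∈ B ∨ y ∈ C := by
    intro y
    by_contra h
    push Not at h
    have := Finset.card_le_univ (insert y (insert a (B ∪ C)))
    rw [Finset.card_insert_of_notMem (by simp [h.1, h.2.1, h.2.2]),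
      Finset.card_insert_of_notMem (by simp [mB, mC, hab, hac]), Finset.card_union_of_disjoint hBC, cB, cC,
      hΩ] at this
    omega
  -- the orbital graph
  let E : Ω → Ω → Prop := fun x y => ∃ g : ↥G, g • a = x ∧ g • b = y
  have Einv : ∀ (g : ↥G) x y, E (g • x) (g • y) ↔ E x y := fun g x y =>
    ⟨fun ⟨k, h1, h2⟩ => ⟨g⁻¹ * k, by rw [mul_smul, h1, inv_smul_smul], by rw [mul_smul, h2, inv_smul_smul]⟩,
      fun ⟨k, h1, h2⟩ => ⟨g * k, by rw [mul_smul, h1], by rw [mul_smul, h2]⟩⟩
  have Ea : ∀ y, E a y ↔ y ∈ B := fun y => by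
    rw [mB]
    exact ⟨fun ⟨g, h1, h2⟩ => ⟨⟨g, h1⟩, h2⟩, fun ⟨x, hx⟩ => ⟨x.1, x.2, hx⟩⟩
  have hirr : ∀ x, ¬ E x x := by
    intro x h
    obtain ⟨g, rfl⟩ := exists_smul_eq ↥G a x
    exact hab ((mB a).1 ((Ea a).1 ((Einv g a a).1 h)))
  have hdeg : ∀ x, (Finset.univ.filter fun y => E x y).card = 1755 := fun x => by
    obtain ⟨g, rfl⟩ := exists_smul_eq ↥G a x
    rw [← cB]
    refine (Finset.card_bij (fun y _ => g • y) (fun y hy => ?_) (fun y _ y' _ e => by simpa using e)
      fun y hy => ⟨g⁻¹ • y, ?_, smul_inv_smul _ _⟩).symm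
    · simp only [Finset.mem_filter, Finset.mem_univ, true_and]
      rw [Einv, Ea]; exact hy
    · simp only [Finset.mem_filter, Finset.mem_univ, true_and] at hy
      rw [← Ea, ← Einv g, smul_inv_smul]; exact hy
  have hEH : ∀ (x : ↥H) u v, E (x • u) (x • v) ↔ E u v := fun x u v => Einv x.1 u v
  have hin : (Finset.univ.filter fun y => E y a).card = 1755 := by
    have h := Finset.sum_card_bipartiteAbove_eq_sum_card_bipartiteBelow (fun x y => E x y)
      (s := (Finset.univ : Finset Ω)) (t := (Finset.univ : Finset Ω))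
    have e2 : ∀ y, (Finset.bipartiteBelow (fun x y => E x y) (Finset.univ : Finset Ω) y).card =
        (Finset.univ.filter fun z => E z a).card := fun y => by
      obtain ⟨g, rfl⟩ := exists_smul_eq ↥G a y
      refine (Finset.card_bij (fun z _ => g • z) (fun z hz => ?_) (fun z _ z' _ e => by simpa using e)
        fun z hz => ⟨g⁻¹ • z, ?_, smul_inv_smul _ _⟩).symm
      · simp only [Finset.mem_filter, Finset.mem_univ, true_and, Finset.mem_bipartiteBelow] at hz ⊢
        rw [Einv]; exact hz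
      · simp only [Finset.mem_filter, Finset.mem_univ, true_and, Finset.mem_bipartiteBelow] at hz ⊢
        rw [← Einv g, smul_inv_smul]; exact hz
    have e1 : ∀ x, (Finset.bipartiteAbove (fun x y => E x y) (Finset.univ : Finset Ω) x).card = 1755 := fun x =>
      hdeg x
    simp only [e1, e2, Finset.sum_const, Finset.card_univ, hΩ, smul_eq_mul] at h
    omega
  have hba : E b a := by
    set T := Finset.univ.filter fun y => E y a
    have hsub : T ⊆ B := by
      intro y hy
      simp only [T, Finset.mem_filter, Finset.mem_univ, true_and] at hy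
      rcases hall y with rfl | h | h
      · exact absurd hy (hirr _)
      · exact h
      · exfalso
        have : C ⊆ T := fun z hz => by
          rw [mC] at h hz
          rw [← orbit_eq_iff.2 h] at hz
          obtain ⟨x, rfl⟩ := hz
          simp only [T, Finset.mem_filter, Finset.mem_univ, true_and]
          have := (hEH x y a).2 hy
          rwa [hfixa] at this
        have := Finset.card_le_card this
        omega
    have := Finset.eq_of_subset_of_card_le hsub (by rw [hin, cB])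
    have hbT : b ∈ T := by rw [this, mB]; exact mem_orbit_self b
    simpa [T] using hbT
  have Esymm : ∀ {x y}, E x y → E y x := fun ⟨g, h1, h2⟩ => by
    obtain ⟨k, k1, k2⟩ := hba
    exact ⟨g * k, by rw [mul_smul, k1, h2], by rw [mul_smul, k2, h1]⟩
  have hfDB : ∀ i ∈ DS, fD i ∈ B := fun i hi => (mB _).2 ((fDr _).2 ⟨i, hi, rfl⟩)
  set bd := fD d0
  have hbd : bd ∈ B := hfDB d0 d0_mem
  -- the number of common neighbours
  set lam := (DS.filter fun y => E bd (fD y)).card
  have hBfilter : ∀ x, (B.filter fun y => E x y).card = (DS.filter fun y => E x (fD y)).card := fun x => by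
    refine (Finset.card_bij (fun y _ => fD y) (fun y hy => ?_) (fun y hy y' hy' e => ?_) fun y hy => ?_).symm
    · simp only [Finset.mem_filter] at hy ⊢
      exact ⟨hfDB y hy.1, hy.2⟩
    · exact fDi y (Finset.mem_filter.1 hy).1 y' (Finset.mem_filter.1 hy').1 e
    · simp only [Finset.mem_filter] at hy
      obtain ⟨i, hi, rfl⟩ := (fDr y).1 ((mB y).1 hy.1)
      exact ⟨i, Finset.mem_filter.2 ⟨hi, hy.2⟩, rfl⟩
  have hNB : ∀ x ∈ B, (B.filter fun y => E x y).card = lam := by
    intro x hx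
    obtain ⟨i, hi, rfl⟩ := (fDr x).1 ((mB x).1 hx)
    obtain ⟨k, rfl⟩ := mem_DS.1 hi
    obtain ⟨z, rfl⟩ := ε.surjective k
    rw [hBfilter]
    refine (Finset.card_bij (fun y _ => ε z • y) (fun y hy => ?_) (fun y _ y' _ e => by simpa using e)
      fun y hy => ⟨(ε z)⁻¹ • y, ?_, smul_inv_smul _ _⟩).symm
    · simp only [Finset.mem_filter] at hy ⊢
      refine ⟨smul_DS.2 hy.1, ?_⟩
      rw [fDe z d0 d0_mem, fDe z y hy.1, hEH]; exact hy.2
    · simp only [Finset.mem_filter] at hy ⊢
      have hy' : (ε z)⁻¹ • y ∈ DS := smul_DS.2 hy.1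
      refine ⟨hy', ?_⟩
      rw [← hEH z, ← fDe z d0 d0_mem, ← fDe z _ hy', smul_inv_smul]; exact hy.2
  have hlam : lam = 730 ∨ lam = 1754 ∨ ¬ 256 ∣ 1755 * (1754 - lam) := by
    obtain ⟨hsl, -⟩ := orbs_spec wOrbsD
    obtain ⟨J, hJ, hJc⟩ := exists_sel wOrbsD (T := DS.filter fun y => E bd (fD y)) (Finset.filter_subset _ _)
      (by
        intro w hw y hy
        rw [Finset.mem_filter] at hy ⊢
        obtain ⟨z, hz⟩ := ε.surjective (md w)
        refine ⟨smul_DS.2 hy.1, ?_⟩
        have e1 := fDe z y hy.1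
        have e2 := fDe z d0 d0_mem
        rw [hz] at e1 e2
        rw [show md w • d0 = d0 from closure_fix hsl fixes.1 (Subgroup.subset_closure ⟨w, hw, rfl⟩)] at e2
        show E (fD d0) (fD (md w • y))
        rw [e1, e2, hEH]; exact hy.2)
    have h0 : (⟨0, by decide +kernel⟩ : Fin wDRep.length) ∉ J := fun h => by
      have : d0 ∈ DS.filter fun y => E bd (fD y) := by
        rw [hJ, Finset.mem_biUnion]
        exact ⟨_, h, by rw [sizes_eq.2.2.2.2.2.1, mset_two_pow d0 (show ((d0 : Pt) : ℕ) = 65 from rfl)]; exact Finset.mem_singleton_self _⟩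
      exact hirr _ (Finset.mem_filter.1 this).2
    have hdec : ∀ K : Finset (Fin wDRep.length), (⟨0, by decide +kernel⟩ : Fin wDRep.length) ∉ K →
        (fun s => s = 730 ∨ s = 1754 ∨ ¬ 256 ∣ 1755 * (1754 - s)) (∑ k ∈ K, wDSize.getD k.val 0) := by
      decide +kernel
    have := hdec J h0
    rwa [← hJc] at this
  have hsplit : ∀ x, (Finset.univ.filter fun y => E x y).card =
      (if E x a then 1 else 0) + (B.filter fun y => E x y).card + (C.filter fun y => E x y).card := fun x => by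
    have e : (Finset.univ.filter fun y => E x y) =
        (({a} : Finset Ω).filter fun y => E x y) ∪ (B.filter fun y => E x y) ∪ (C.filter fun y => E x y) := by
      ext y
      simp only [Finset.mem_union, Finset.mem_filter, Finset.mem_univ, true_and, Finset.mem_singleton]
      exact ⟨fun h => by
        rcases hall y with h' | h' | h'
        exacts [Or.inl (Or.inl ⟨h', h⟩), Or.inl (Or.inr ⟨h', h⟩), Or.inr ⟨h', h⟩],
        fun h => by rcases h with (⟨-, h⟩ | ⟨-, h⟩) | ⟨-, h⟩ <;> exact h⟩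
    rw [e, Finset.card_union_of_disjoint, Finset.card_union_of_disjoint]
    · congr 2
      rw [Finset.filter_singleton]
      split <;> simp
    · exact Finset.disjoint_filter_filter (by simp [mB, hab])
    · rw [Finset.disjoint_union_left]
      exact ⟨Finset.disjoint_filter_filter (by simp [mC, hac]), Finset.disjoint_filter_filter hBC⟩
  have hEBa : ∀ x ∈ B, E x a := fun x hx => Esymm ((Ea x).2 hx)
  have hNC : ∀ x ∈ B, (C.filter fun y => E x y).card = 1754 - lam := fun x hx => by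
    have h := hsplit x
    rw [hdeg, if_pos (hEBa x hx), hNB x hx] at h
    omega
  set mu := (B.filter fun y => E c y).card
  have hNcB : ∀ y ∈ C, (B.filter fun x => E x y).card = mu := by
    intro y hy
    obtain ⟨z, rfl⟩ := (mC y).1 hy
    have hBz : ∀ x, x ∈ B → z • x ∈ B := fun x hx => by
      obtain ⟨u, rfl⟩ := (mB x).1 hx
      exact (mB _).2 ⟨z * u, mul_smul _ _ _⟩
    refine (Finset.card_bij (fun x _ => z • x) (fun x hx => ?_) (fun x _ x' _ e => by simpa using e)
      fun x hx => ⟨z⁻¹ • x, ?_, smul_inv_smul _ _⟩).symm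
    · simp only [Finset.mem_filter] at hx ⊢
      exact ⟨hBz x hx.1, (hEH z x c).2 (Esymm hx.2)⟩
    · simp only [Finset.mem_filter] at hx ⊢
      refine ⟨?_, Esymm ?_⟩
      · obtain ⟨u, rfl⟩ := (mB x).1 hx.1
        exact (mB _).2 ⟨z⁻¹ * u, mul_smul _ _ _⟩
      · rw [← hEH z, smul_inv_smul]; exact hx.2
  have hcount : 1755 * (1754 - lam) = 2304 * mu := by
    have h := Finset.sum_card_bipartiteAbove_eq_sum_card_bipartiteBelow (fun x y => E x y) (s := B) (t := C)
    simp only [Finset.bipartiteAbove, Finset.bipartiteBelow] at h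
    rw [Finset.sum_congr rfl hNC, Finset.sum_congr rfl hNcB, Finset.sum_const, Finset.sum_const, cB, cC,
      smul_eq_mul, smul_eq_mul] at h
    exact h
  have hlm : lam = 730 ∧ mu = 780 := by
    rcases hlam with h | h | h
    · rw [h] at hcount; omega
    · exfalso
      -- the first orbit and the point would be closed
      set S := insert a B
      have hScard : S.card = 1756 := by rw [Finset.card_insert_of_notMem (by rw [mB]; exact hab), cB]
      have hclosed : ∀ x ∈ S, insert x (Finset.univ.filter fun y => E x y) = S := by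
        intro x hx
        refine Finset.eq_of_subset_of_card_le (fun y hy => ?_) (by
          rw [Finset.card_insert_of_notMem (s := Finset.univ.filter fun y => E x y)
            (fun h' => hirr x (Finset.mem_filter.1 h').2), hdeg, hScard])
        rcases Finset.mem_insert.1 hy with rfl | hy
        · exact hx
        simp only [Finset.mem_filter, Finset.mem_univ, true_and] at hy
        rcases hall y with h' | h' | h'
        · exact h' ▸ Finset.mem_insert_self _ _
        · exact Finset.mem_insert_of_mem h'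
        · exfalso
          rcases Finset.mem_insert.1 hx with rfl | hx
          · exact Finset.disjoint_left.1 hBC ((Ea y).1 hy) h'
          · have h0 := hNC x hx
            rw [h, Nat.sub_self, Finset.card_eq_zero] at h0
            exact Finset.notMem_empty y (h0 ▸ Finset.mem_filter.2 ⟨h', hy⟩)
      have hblock : IsBlock ↥G (S : Set Ω) := by
        intro g₁ g₂ hne
        rw [Set.disjoint_left]
        intro y h1 h2
        apply hne
        have key : ∀ g : ↥G, y ∈ g • (S : Set Ω) →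
            g • (S : Set Ω) = ((insert y (Finset.univ.filter fun z => E y z) : Finset Ω) : Set Ω) := by
          rintro g ⟨x, hx, rfl⟩
          conv_lhs => rw [← hclosed x hx]
          ext z
          rw [Set.mem_smul_set_iff_inv_smul_mem]
          simp only [Finset.coe_insert, Set.mem_insert_iff, Finset.coe_filter, Finset.mem_univ, true_and,
            Set.mem_setOf_eq]
          rw [inv_smul_eq_iff, ← Einv g x (g⁻¹ • z), smul_inv_smul]
        rw [key g₁ h1, key g₂ h2]
      have := hblock.ncard_dvd_card ⟨a, Finset.mem_insert_self a B⟩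
      rw [Set.ncard_coe_finset, hScard, Nat.card_eq_fintype_card, hΩ] at this
      norm_num at this
    · exact absurd ⟨9 * mu, by omega⟩ h
  obtain ⟨hlam730, hmu780⟩ := hlm
  -- the point class
  obtain ⟨j0, hj0, hj0e⟩ := index2304 ((stabilizer ↥H c).map ε.toMonoidHom)
    (by have := card_map c; rw [hc] at this; omega)
  have hSS : ∀ i, i ∈ SS ↔ ∃ k : MM, k • j0 = i := fun i => by
    obtain ⟨k0, hk0⟩ := mem_SS.1 hj0
    rw [mem_SS]
    constructor
    · rintro ⟨k, hk⟩; exact ⟨k * k0⁻¹, by rw [← hk0, mul_smul, inv_smul_smul, hk]⟩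
    · rintro ⟨k, hk⟩; exact ⟨k * k0, by rw [mul_smul, hk0, hk]⟩
  obtain ⟨fS, fSi, fSr, fSe⟩ := exists_equivariant ε c hSS hj0e
  have hfSC : ∀ i ∈ SS, fS i ∈ C := fun i hi => (mC _).2 ((fSr _).2 ⟨i, hi, rfl⟩)
  let f : Pt → Ω := fun x => if x ∈ DS then fD x else if x ∈ SS then fS x else a
  have hp00 : (0 : Pt) ∉ DS ∧ (0 : Pt) ∉ SS := ⟨split_facts.2.2.1, split_facts.2.2.2.1⟩
  have hdis : ∀ i, i ∈ SS → i ∉ DS := fun i hi hi' => Finset.disjoint_left.1 split_facts.2.1 hi' hi
  have f0 : f (0 : Pt) = a := by simp [f, hp00.1, hp00.2]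
  have fD' : ∀ i ∈ DS, f i = fD i := fun i hi => by simp [f, hi]
  have fS' : ∀ i ∈ SS, f i = fS i := fun i hi => by simp [f, hi, hdis i hi]
  have finj : Function.Injective f := by
    intro x y h
    rcases pt_cases x with rfl | hx | hx <;> rcases pt_cases y with rfl | hy | hy
    · rfl
    · rw [f0, fD' y hy] at h; exact absurd ((mB a).1 (h ▸ hfDB y hy)) hab
    · rw [f0, fS' y hy] at h; exact absurd ((mC a).1 (h ▸ hfSC y hy)) hac
    · rw [f0, fD' x hx] at h; exact absurd ((mB a).1 (h.symm ▸ hfDB x hx)) hab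
    · rw [fD' x hx, fD' y hy] at h; exact fDi x hx y hy h
    · rw [fD' x hx, fS' y hy] at h; exact absurd (h ▸ hfSC y hy) (Finset.disjoint_left.1 hBC (hfDB x hx))
    · rw [f0, fS' x hx] at h; exact absurd ((mC a).1 (h.symm ▸ hfSC x hx)) hac
    · rw [fS' x hx, fD' y hy] at h; exact absurd (h.symm ▸ hfSC x hx) (Finset.disjoint_left.1 hBC (hfDB y hy))
    · rw [fS' x hx, fS' y hy] at h; exact fSi x hx y hy h
  let L : Pt ≃ Ω := Equiv.ofBijective f ((Fintype.bijective_iff_injective_and_card f).2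
    ⟨finj, by rw [hΩ, Fintype.card_fin]⟩)
  have Le : ∀ (z : ↥H) (i : Pt), L (ε z • i) = z • L i := fun z i => by
    show f _ = z • f i
    rcases pt_cases i with rfl | hi | hi
    · rw [mm_fix, f0, hfixa]
    · rw [fD' i hi, fD' _ (smul_DS.2 hi), fDe z i hi]
    · rw [fS' i hi, fS' _ (smul_SS.2 hi), fSe z i hi]
  have hR := rel_unique (R := fun x y => E (L x) (L y))
    (fun g x y => by
      obtain ⟨z, rfl⟩ := ε.surjective g
      rw [Le, Le, hEH])
    (fun x y h => Esymm h)
    (fun y => by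
      show E (f (0 : Pt)) (f y) ↔ _
      rw [f0, Ea]
      rcases pt_cases y with rfl | hy | hy
      · rw [f0, mB]; exact iff_of_false hab hp00.1
      · rw [fD' y hy]; exact iff_of_true (hfDB y hy) hy
      · rw [fS' y hy]; exact iff_of_false (fun h => Finset.disjoint_left.1 hBC h (hfSC y hy)) (hdis y hy))
    (hirr _)
    (by
      rw [← hlam730]
      refine congrArg Finset.card (Finset.filter_congr fun y hy => ?_)
      show E (f d0) (f y) ↔ _
      rw [fD' d0 d0_mem, fD' y hy])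
    (by
      have hcp : fS p1 ∈ C := hfSC p1 p1_mem
      refine Eq.trans ?_ ((hNcB _ hcp).trans hmu780)
      refine Finset.card_bij (fun y _ => fD y) (fun y hy => ?_) (fun y hy y' hy' e => ?_) fun y hy => ?_
      · simp only [Finset.mem_filter] at hy ⊢
        refine ⟨hfDB y hy.1, Esymm ?_⟩
        have := hy.2
        change E (f p1) (f y) at this
        rwa [fS' p1 p1_mem, fD' y hy.1] at this
      · exact fDi y (Finset.mem_filter.1 hy).1 y' (Finset.mem_filter.1 hy').1 e
      · simp only [Finset.mem_filter] at hy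
        obtain ⟨i, hi, rfl⟩ := (fDr y).1 ((mB y).1 hy.1)
        refine ⟨i, Finset.mem_filter.2 ⟨hi, ?_⟩, rfl⟩
        show E (f p1) (f i)
        rw [fS' p1 p1_mem, fD' i hi]; exact Esymm hy.2)
    (by
      have hcp : fS p1 ∈ C := hfSC p1 p1_mem
      have h := hsplit (fS p1)
      rw [hdeg, if_neg (fun h' => Finset.disjoint_left.1 hBC ((Ea _).1 (Esymm h')) hcp)] at h
      have h2 : (B.filter fun y => E (fS p1) y).card = 780 := by
        rw [← hmu780, ← hNcB _ hcp]
        exact congrArg Finset.card (Finset.filter_congr fun y _ => ⟨Esymm, Esymm⟩)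
      have h3 : (C.filter fun y => E (fS p1) y).card = 975 := by omega
      rw [← h3]
      refine Finset.card_bij (fun y _ => fS y) (fun y hy => ?_) (fun y hy y' hy' e => ?_) fun y hy => ?_
      · simp only [Finset.mem_filter] at hy ⊢
        refine ⟨hfSC y hy.1, ?_⟩
        have := hy.2
        change E (f p1) (f y) at this
        rwa [fS' p1 p1_mem, fS' y hy.1] at this
      · exact fSi y (Finset.mem_filter.1 hy).1 y' (Finset.mem_filter.1 hy').1 e
      · simp only [Finset.mem_filter] at hy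
        obtain ⟨i, hi, rfl⟩ := (fSr y).1 ((mC y).1 hy.1)
        refine ⟨i, Finset.mem_filter.2 ⟨hi, ?_⟩, rfl⟩
        show E (f p1) (f i)
        rw [fS' p1 p1_mem, fS' i hi]; exact hy.2)
  -- the pulled back group
  let ψ : Equiv.Perm Ω →* Equiv.Perm Pt := L.symm.permCongrHom.toMonoidHom
  have hψ : ∀ (g : Equiv.Perm Ω) x, ψ g x = L.symm (g (L x)) := fun g x => by
    simp [ψ, Equiv.permCongrHom, Equiv.permCongr_apply]
  set A := G.map ψ
  have hA : A ≤ AutR0 := by
    rintro _ ⟨g, hg, rfl⟩ x y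
    rw [← hR, ← hR, hψ, hψ, L.apply_symm_apply, L.apply_symm_apply]
    exact Einv (⟨g, hg⟩ : ↥G) _ _
  have hψi : Function.Injective ψ := L.symm.permCongrHom.injective
  have hGA : ↥G ≃* ↥A := G.equivMapOfInjective ψ hψi
  have hcardA : Nat.card ↥A = 145926144000 := by
    rw [← Nat.card_congr hGA.toEquiv]
    have h := H.card_mul_index
    rw [show H.index = Nat.card Ω from index_stabilizer_of_transitive G a,
      Nat.card_eq_fintype_card (α := Ω), hΩ, Nat.card_congr ε.toEquiv, natCard_MM] at h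
    omega
  have L0 : L (0 : Pt) = a := f0
  have hsig : ∀ z : ↥H, ψ (z.1 : Equiv.Perm Ω) = sig (ε z) := fun z => Equiv.ext fun x => by
    rw [hψ, sig_apply, Equiv.symm_apply_eq, Le]; rfl
  have hMA : ∀ m : MM, sig m ∈ A := fun m => by
    obtain ⟨z, rfl⟩ := ε.surjective m
    exact ⟨z.1.1, z.1.2, hsig z⟩
  have hA0 : ∀ p ∈ A, p 0 = 0 → ∃ m : MM, sig m = p := by
    rintro _ ⟨g, hg, rfl⟩ hp
    rw [hψ, Equiv.symm_apply_eq, L0] at hp
    exact ⟨ε ⟨⟨g, hg⟩, hp⟩, (hsig _).symm⟩
  -- an element exchanging the ends of an edge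
  obtain ⟨g, hgA, g0, g65⟩ : ∃ g ∈ A, g 0 = d0 ∧ g d0 = 0 := by
    have hLd : L d0 = bd := fD' d0 d0_mem
    obtain ⟨g₁, h1, h2⟩ := Esymm ((Ea bd).2 hbd)
    obtain ⟨z, hz⟩ := (mB bd).1 hbd
    have hg' : ∀ x, ((g₁ * z.1⁻¹ : ↥G) : Equiv.Perm Ω) x = (g₁ * z.1⁻¹) • x := fun x => rfl
    refine ⟨ψ (g₁ * z.1⁻¹ : ↥G).1, ⟨_, (g₁ * z.1⁻¹).2, rfl⟩, ?_, ?_⟩
    · rw [hψ, Equiv.symm_apply_eq, L0, hLd, hg', mul_smul, show z.1⁻¹ • a = a from inv_smul_eq_iff.2 (hfixa z).symm]
      exact h1
    · rw [hψ, Equiv.symm_apply_eq, L0, hLd, hg', mul_smul, show z.1⁻¹ • bd = b from inv_smul_eq_iff.2 hz.symm]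
      exact h2
  obtain ⟨s, s0, s65⟩ := R0_d0
  set p := (s : Equiv.Perm Pt)
  have p0 : p 0 = d0 := s0
  have p65 : p d0 = 0 := s65
  have hpA : p ∈ AutR0 := fun x y => R0_smul s
  have hnorm : ∀ q : Equiv.Perm Pt, (∀ m : MM, ∀ r : Equiv.Perm Pt, r = q * sig m * q⁻¹ → r 0 = 0 →
      ∃ m', sig m' = r) → q 0 = d0 → q d0 = 0 → q ∈ Subgroup.normalizer (WW : Set _) := by
    intro q hq q0 q65
    have hle : WW.map (MulAut.conj q).toMonoidHom ≤ WW := by
      rintro _ ⟨_, ⟨m, hm, rfl⟩, rfl⟩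
      have i0 : q⁻¹ 0 = d0 := Equiv.Perm.inv_eq_iff_eq.2 q65.symm
      have i65 : q⁻¹ d0 = 0 := Equiv.Perm.inv_eq_iff_eq.2 q0.symm
      have e : (MulAut.conj q).toMonoidHom (sig m) = q * sig m * q⁻¹ := rfl
      have r0 : (q * sig m * q⁻¹) 0 = 0 := by
        rw [Equiv.Perm.mul_apply, Equiv.Perm.mul_apply, i0, sig_apply, mem_stabilizer_iff.1 hm, q65]
      obtain ⟨m', hm'⟩ := hq m _ rfl r0
      refine mem_WW.2 ⟨m', ?_, hm'.trans e.symm⟩
      rw [← sig_apply, hm', Equiv.Perm.mul_apply, Equiv.Perm.mul_apply, i65, sig_apply, mm_fix, q0]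
    have heq : WW.map (MulAut.conj q).toMonoidHom = WW := Subgroup.eq_of_le_of_card_ge hle
      (le_of_eq (Nat.card_congr (WW.equivMapOfInjective _ (MulAut.conj q).injective).toEquiv))
    rw [Subgroup.mem_normalizer_iff]
    intro x
    refine ⟨fun hx => ?_, fun hx => ?_⟩
    · rw [← heq]; exact ⟨x, hx, rfl⟩
    · rw [← heq] at hx
      obtain ⟨y, hy, e⟩ := hx
      have : y = x := by simpa [MulAut.conj_apply] using e
      exact this ▸ hy
  have hgN : g ∈ Subgroup.normalizer (WW : Set _) := hnorm g (fun m r hr r0 => hA0 r (by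
    rw [hr]; exact mul_mem (mul_mem hgA (hMA m)) (inv_mem hgA)) r0) g0 g65
  have hpN : p ∈ Subgroup.normalizer (WW : Set _) := hnorm p (fun m r hr r0 => by
    have hr' : r ∈ RuP := by rw [hr]; exact mul_mem (mul_mem s.2 m.1.2) (inv_mem s.2)
    exact ⟨⟨⟨r, hr'⟩, r0⟩, Equiv.ext fun _ => rfl⟩) p0 p65
  obtain ⟨m₀, hm₀⟩ := aut_edge (mul_mem (inv_mem hpA) (hA hgA)) (mul_mem (inv_mem hpN) hgN)
    (by rw [Equiv.Perm.mul_apply, g0, Equiv.Perm.inv_eq_iff_eq, p0])
    (by rw [Equiv.Perm.mul_apply, g65, Equiv.Perm.inv_eq_iff_eq, p65])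
  have hgR : g ∈ RuP := by
    have e : g = p * sig m₀ := by rw [hm₀, mul_inv_cancel_left]
    rw [e]; exact mul_mem s.2 m₀.1.2
  -- the two groups contain a common transitive subgroup with the whole stabilizer
  set T := A ⊓ RuP
  have hMT : ∀ m : MM, sig m ∈ T := fun m => ⟨hMA m, m.1.2⟩
  have hgT : g ∈ T := ⟨hgA, hgR⟩
  have hreach : ∀ x : Pt, ∃ q ∈ T, q 0 = x := by
    have hD : ∀ x ∈ DS, ∃ q ∈ T, q 0 = x := fun x hx => by
      obtain ⟨m, rfl⟩ := mem_DS.1 hx
      exact ⟨sig m * g, mul_mem (hMT m) hgT, by rw [Equiv.Perm.mul_apply, g0, sig_apply]⟩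
    intro x
    rcases pt_cases x with rfl | hx | hx
    · exact ⟨1, one_mem _, rfl⟩
    · exact hD x hx
    · have hbit : (rows.getD pos65 0).testBit 1 = true := by decide +kernel
      have hr : R0 d0 p1 := (row_spec _ nbrs.2.2.1 d0 nbrs.1.symm p1).1 hbit
      have hy : g⁻¹ p1 ∈ DS := by
        rw [← R0_base, ← hA hgA, g0, show g (g⁻¹ p1) = p1 by simp]; exact hr
      obtain ⟨q, hq, hq0⟩ := hD _ hy
      obtain ⟨m, rfl⟩ := mem_SS.1 hx
      exact ⟨sig m * (g * q), mul_mem (hMT m) (mul_mem hgT hq),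
        by rw [Equiv.Perm.mul_apply, Equiv.Perm.mul_apply, hq0, sig_apply, show g (g⁻¹ p1) = p1 by simp]⟩
  have hTcard : 145926144000 ≤ Nat.card ↥T := by
    have hinj : Function.Injective (fun xm : Pt × MM =>
        (⟨(hreach xm.1).choose * sig xm.2, mul_mem (hreach xm.1).choose_spec.1 (hMT xm.2)⟩ : ↥T)) := by
      rintro ⟨x, m⟩ ⟨y, n⟩ e
      have e' := congrArg Subtype.val e
      simp only at e'
      have hxy : x = y := by
        have := congrArg (fun q : Equiv.Perm Pt => q 0) e'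
        simpa [sig_apply, mm_fix, (hreach x).choose_spec.2, (hreach y).choose_spec.2] using this
      subst hxy
      have := mm_ext (g := m) (h := n) fun z => congrArg (fun q : Equiv.Perm Pt => q z) (mul_left_cancel e')
      rw [this]
    have := Nat.card_le_card_of_injective _ hinj
    rw [Nat.card_prod, Nat.card_fin, natCard_MM] at this
    omega
  have h1 : T = A := Subgroup.eq_of_le_of_card_ge inf_le_left (by rw [hcardA]; exact hTcard)
  have h2 : T = RuP := Subgroup.eq_of_le_of_card_ge inf_le_right (by rw [order_facts.2.1]; exact hTcard)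
  exact ⟨hGA.trans ((MulEquiv.subgroupCongr (h1.symm.trans h2)).trans ruEquiv.symm)⟩

end CfsgLib.RuRec
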