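import Cfsg.Agent.Lib.RuRec.Iso
import Cfsg.Agent.Lib.RuRec.CheckNorm
import Mathlib.GroupTheory.Sylow

/-!
Subgroups of index 1755 and 2304 of the stabilizer.
-/

set_option autoImplicit false
set_option maxRecDepth 20000

namespace CfsgLib.RuRec

open CfsgLib.CosetEnum CfsgLib.RuGroup MulAction
open Cfsg.Lie Matrix CfsgLib.Chev CfsgLib.Chev.F4Two
open scoped Pointwise

attribute [local irreducible] half0Mask ssMask rows pImg lineImg vecTab ordTab rkTab

theorem exists_conj_mem {G : Type*} [Group G] [Finite G] {p : ℕ} [Fact p.Prime] {P L : Subgroup G}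
    (hP : IsPGroup p P) (hL : (Nat.card ↥L).factorization p = (Nat.card G).factorization p) :
    ∃ g : G, ∀ x ∈ P, g * x * g⁻¹ ∈ L := by
  obtain ⟨Q⟩ : Nonempty (Sylow p ↥L) := inferInstance
  obtain ⟨P0, hP0⟩ := hP.exists_le_sylow
  have hQ : Nat.card ↥((Q : Subgroup ↥L).map L.subtype) = p ^ (Nat.card G).factorization p := by
    rw [← Nat.card_congr ((Q : Subgroup ↥L).equivMapOfInjective _ L.subtype_injective).toEquiv,
      Q.card_eq_multiplicity, hL]
  obtain ⟨g, hg⟩ := exists_smul_eq G P0 (Sylow.ofCard _ hQ)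
  refine ⟨g, fun x hx => ?_⟩
  have hm : g * x * g⁻¹ ∈ (g • P0 : Sylow p G).toSubgroup := by
    rw [Sylow.coe_subgroup_smul, Subgroup.mem_pointwise_smul_iff_inv_smul_mem]
    have e : (MulAut.conj g)⁻¹ • (g * x * g⁻¹) = x := by simp [MulAut.smul_def]; group
    rw [e]; exact hP0 hx
  rw [hg] at hm
  obtain ⟨q, -, hq⟩ := hm
  rw [← hq]; exact q.2

theorem fac_eq {p k n m : ℕ} (hp : p.Prime) (hn : n ≠ 0) (hm : m ≠ 0) (h1 : p ^ k ∣ n)
    (h2 : ¬ p ^ (k + 1) ∣ n) (h3 : p ^ k ∣ m) (h4 : ¬ p ^ (k + 1) ∣ m) :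
    n.factorization p = m.factorization p := by
  rw [hp.pow_dvd_iff_le_factorization hn] at h1 h2
  rw [hp.pow_dvd_iff_le_factorization hm] at h3 h4
  omega

/-- the orbit of a point under a subgroup -/
noncomputable def orbF (L : Subgroup MM) (x : Pt) : Finset Pt := (Set.toFinite (orbit ↥L x)).toFinset

theorem mem_orbF {L : Subgroup MM} {x y : Pt} : y ∈ orbF L x ↔ ∃ l ∈ L, l • x = y := by
  rw [orbF, Set.Finite.mem_toFinset]
  exact ⟨fun ⟨l, e⟩ => ⟨l.1, l.2, e⟩, fun ⟨l, hl, e⟩ => ⟨⟨l, hl⟩, e⟩⟩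

theorem card_orbF (L : Subgroup MM) (x : Pt) :
    Nat.card ↥(stabilizer ↥L x) * (orbF L x).card = Nat.card ↥L := by
  have h := (stabilizer ↥L x).card_mul_index
  rwa [index_stabilizer, Set.ncard_eq_toFinset_card _ (Set.toFinite _)] at h

theorem card_stab {S : Finset Pt} {x : Pt} (h : ∀ y, y ∈ S ↔ ∃ g : MM, g • x = y) :
    Nat.card (stabilizer MM x) * S.card = 35942400 := by
  have ho : (orbit MM x).ncard = S.card := by
    rw [← Set.ncard_coe_finset]
    congr 1
    ext y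
    exact (h y).symm
  rw [← natCard_MM, ← ho, ← index_stabilizer]
  exact Subgroup.card_mul_index _

theorem card_stab_d0 : Nat.card (stabilizer MM d0) = 20480 := by
  have := card_stab (S := DS) (x := d0) fun y => mem_DS
  rw [card_DS] at this
  omega

theorem card_stab_p1 : Nat.card (stabilizer MM p1) = 15600 := by
  have := card_stab (S := SS) (x := p1) fun y => mem_SS
  rw [card_SS] at this
  omega

theorem card_map_conj (L : Subgroup MM) (g : MM) :
    Nat.card ↥(L.map (MulAut.conj g).toMonoidHom) = Nat.card ↥L :=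
  (Nat.card_congr (L.equivMapOfInjective _ (MulAut.conj g).injective).toEquiv).symm

theorem mem_map_conj {L : Subgroup MM} {g x : MM} (h : g * x * g⁻¹ ∈ L) :
    x ∈ L.map (MulAut.conj g⁻¹).toMonoidHom :=
  ⟨_, h, by simp [MulAut.conj_apply]; group⟩

theorem conj_stab {L : Subgroup MM} {g : MM} {x : Pt}
    (hL : L.map (MulAut.conj g⁻¹).toMonoidHom = stabilizer MM x) : L = stabilizer MM (g • x) := by
  ext l
  have : l ∈ L ↔ g⁻¹ * l * g ∈ stabilizer MM x := by
    rw [← hL, Subgroup.mem_map]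
    constructor
    · intro h; exact ⟨l, h, by simp [MulAut.conj_apply]⟩
    · rintro ⟨k, hk, e⟩
      have : k = l := by simpa [MulAut.conj_apply] using e
      exact this ▸ hk
  rw [this, mem_stabilizer_iff, mem_stabilizer_iff, mul_smul, mul_smul, inv_smul_eq_iff]

/-! ### Index 1755 -/

theorem root_facts : stabLetters uW = true ∧ uW.length = 12 ∧ reps12.length = 12 ∧
    (reps12.all fun r => (orbWord r).all fun s => decide (24 ≤ s ∧ s < 48)) = true ∧ tabF4.half = 24 ∧ tabF4.n = 48 := by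
  decide +kernel

theorem act_root {k : ℕ} (hk : k < 12) : SL (uW.getD k []) ∧
    Act (Wd (orbWord (reps12.getD k 0))) (md (uW.getD k [])) := by
  obtain ⟨h1, h2, h3, h4, -⟩ := root_facts
  simp only [List.all_eq_true, decide_eq_true_eq] at h4
  have hw : SL (uW.getD k []) := sl_of h1 (by rw [List.getD_eq_getElem _ _ (by omega)]; exact List.getElem_mem _)
  refine ⟨hw, act_word (fun r hr => (h4 _ (by rw [List.getD_eq_getElem _ _ (by omega)]; exact List.getElem_mem _) r hr).2) hw ?_⟩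
  interval_cases k
  exacts [rootPair0, rootPair1, rootPair2, rootPair3, rootPair4, rootPair5, rootPair6, rootPair7, rootPair8,
    rootPair9, rootPair10, rootPair11]

theorem cands_fix : ∀ L : List ℕ, (∀ r ∈ L, r ∈ reps12) → ∀ c ∈ cands L,
    (Wd c.1 : Matrix chevF4.Idx chevF4.Idx (ZMod 2)) *ᵥ V d0 = V d0
  | [], _, c, hc => by
    simp only [cands, List.mem_singleton] at hc
    subst hc
    rw [Wd_nil, Units.val_one, one_mulVec]
  | r :: L, hL, c, hc => by
    simp only [cands, List.mem_append, List.mem_map] at hc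
    rcases hc with hc | ⟨c', hc', rfl⟩
    · exact cands_fix L (fun s hs => hL s (List.mem_cons_of_mem _ hs)) c hc
    · rw [Wd_append, Units.val_mul, ← mulVec_mulVec,
        cands_fix L (fun s hs => hL s (List.mem_cons_of_mem _ hs)) c' hc']
      obtain ⟨k, hk, rfl⟩ := List.mem_iff_getElem.1 (hL r List.mem_cons_self)
      have hk12 : k < 12 := lt_of_lt_of_eq hk root_facts.2.2.1
      obtain ⟨hw, ha⟩ := act_root hk12
      rw [List.getD_eq_getElem _ _ hk] at ha
      rw [ha d0 d0_mem]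
      congr 1
      exact Fin.ext ((md_smul hw d0).trans (Nat.eq_of_beq_eq_true (by
        have h := fixes.2.2
        simp only [fixOK, List.all_eq_true] at h
        exact h _ (by rw [List.getD_eq_getElem _ _ (by rw [root_facts.2.1]; exact hk12)]; exact List.getElem_mem _))))

/-- the Sylow 2-subgroup of the stabilizer -/
noncomputable def UU : Subgroup MM := U2.map isoMM.toMonoidHom

theorem card_UU : Nat.card ↥UU = 2 ^ 12 := by
  rw [UU, ← Nat.card_congr (U2.equivMapOfInjective isoMM.toMonoidHom isoMM.injective).toEquiv, card_U2]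

theorem UU_fix : UU ≤ stabilizer MM d0 := by
  rintro _ ⟨g, hg, rfl⟩
  obtain ⟨c, hc, he⟩ := exists_cand (g := g) hg
  rw [mem_stabilizer_iff, MulEquiv.coe_toMonoidHom]
  refine V_inj (smul_DS.2 d0_mem) d0_mem ?_
  rw [← isoMM_act g d0 d0_mem, he, cands_fix reps12 (fun _ h => h) c hc]

theorem uW_mem {w : List ℕ} (hw : w ∈ uW) : md w ∈ UU := by
  obtain ⟨k, hk, rfl⟩ := List.mem_iff_getElem.1 hw
  have hk12 : k < 12 := lt_of_lt_of_eq hk root_facts.2.1
  obtain ⟨-, ha⟩ := act_root hk12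
  rw [List.getD_eq_getElem _ _ hk, List.getD_eq_getElem _ _ (lt_of_lt_of_eq hk12 root_facts.2.2.1.symm)] at ha
  set r := reps12[k]'(lt_of_lt_of_eq hk12 root_facts.2.2.1.symm)
  obtain ⟨al, -, himg⟩ := imgs
  obtain ⟨hmem, -⟩ := himg r (List.getElem_mem _)
  refine ⟨⟨Wd (orbWord r), hmem⟩, ?_, eq_of_DS fun x hx => V_inj (smul_DS.2 hx) (smul_DS.2 hx) ?_⟩
  · show Wd (orbWord r) ∈ chevF4.posUnipotent (ZMod 2)
    rw [certF4.posUnipotent_eq, Wd_eq_prod]
    refine Subgroup.list_prod_mem _ fun y hy => ?_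
    obtain ⟨s, hs, rfl⟩ := List.mem_map.1 hy
    have h4 := root_facts.2.2.2.1
    simp only [List.all_eq_true, decide_eq_true_eq] at h4
    have := h4 r (List.getElem_mem _) s hs
    exact X_mem_gen chevF4 (show tabF4.half ≤ s ∧ s < tabF4.n by
      rw [root_facts.2.2.2.2.1, root_facts.2.2.2.2.2]; exact this) 1
  · rw [MulEquiv.coe_toMonoidHom, ← isoMM_act _ x hx, ← ha x hx]

/-- Subgroups of index 1755 fix a point of the first suborbit. -/
theorem index1755 (K : Subgroup MM) (hK : Nat.card ↥K = 20480) : ∃ i ∈ DS, K = stabilizer MM i := by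
  classical
  haveI : Fact (Nat.Prime 2) := ⟨Nat.prime_two⟩
  obtain ⟨g, hg⟩ := exists_conj_mem (L := K) (IsPGroup.of_card card_UU) (by
    rw [hK, natCard_MM]
    exact fac_eq (k := 12) (by norm_num) (by norm_num) (by norm_num) (by norm_num) (by norm_num) (by norm_num)
      (by norm_num))
  set L := K.map (MulAut.conj g⁻¹).toMonoidHom
  have hL : Nat.card ↥L = 20480 := (card_map_conj K g⁻¹).trans hK
  have hUL : UU ≤ L := fun x hx => mem_map_conj (hg x hx)
  suffices h : L ≤ stabilizer MM d0 from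
    ⟨g • d0, smul_DS.2 d0_mem, conj_stab (Subgroup.eq_of_le_of_card_ge h (by rw [hL, card_stab_d0]))⟩
  set S := orbF L d0 with hS
  have hdvd : S.card ∣ 5 := by
    have h1 : 2 ^ 12 ∣ Nat.card ↥(stabilizer ↥L d0) := by
      rw [← card_UU]
      let φ : ↥UU →* ↥(stabilizer ↥L d0) :=
        { toFun := fun x => ⟨⟨x.1, hUL x.2⟩, UU_fix x.2⟩
          map_one' := rfl
          map_mul' := fun _ _ => rfl }
      exact Subgroup.card_dvd_of_injective φ fun x y e => Subtype.ext (congrArg (fun z => z.1.1) e)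
    obtain ⟨c, hc⟩ := h1
    have := card_orbF L d0
    rw [← hS, hc, hL] at this
    exact ⟨c, by nlinarith⟩
  have hd : d0 ∈ S := mem_orbF.2 ⟨1, one_mem _, one_smul _ _⟩
  obtain ⟨J, hJ, hJc⟩ := exists_sel uOrbs (T := S) (fun y hy => by
      obtain ⟨l, -, rfl⟩ := mem_orbF.1 hy
      exact smul_DS.2 d0_mem)
    (fun w hw y hy => by
      obtain ⟨l, hl, rfl⟩ := mem_orbF.1 hy
      exact mem_orbF.2 ⟨md w * l, mul_mem (hUL (uW_mem hw)) hl, mul_smul _ _ _⟩)
  have hdec : ∀ J : Finset (Fin uDRep.length), ∑ i ∈ J, uDSize.getD i.val 0 ≠ 5 := by decide +kernel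
  have h1 : S.card = 1 := by
    rcases (Nat.dvd_prime (by norm_num : Nat.Prime 5)).1 hdvd with h | h
    · exact h
    · exact absurd (hJc.symm.trans h) (hdec J)
  obtain ⟨z, hz⟩ := Finset.card_eq_one.1 h1
  intro l hl
  have h2 : l • d0 ∈ S := mem_orbF.2 ⟨l, hl, rfl⟩
  rw [hz, Finset.mem_singleton] at hd h2
  rw [mem_stabilizer_iff, h2, ← hd]

/-! ### The element of order thirteen -/

theorem rel_facts :
    (SL qW ∧ SL rW ∧ SL cW ∧ SL nW ∧ SL tW ∧ SL rW0) ∧
    (md qW ^ 13 = 1 ∧ md rW ^ 4 = 1 ∧ md rW ^ 2 ≠ 1 ∧ md qW ≠ 1) ∧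
    (md rW * md qW = md qW ^ 8 * md rW ∧ md cW * md qW = md qW ^ 3 * md cW) ∧
    (md nW * md rW = md rW * md nW ∧ md tW * md rW0 = md rW * md tW) := by
  have h := rel_ok
  simp only [relOK, Bool.and_eq_true, Bool.not_eq_true'] at h
  obtain ⟨⟨⟨⟨⟨⟨⟨⟨⟨⟨⟨⟨⟨⟨⟨⟨⟨⟨⟨⟨⟨⟨hsl, a⟩, b⟩, c⟩, d⟩, e⟩, f⟩, g⟩, i⟩, -⟩, -⟩, -⟩, -⟩, -⟩, -⟩, -⟩, -⟩, -⟩, -⟩, -⟩, -⟩, -⟩, -⟩ := h
  have sq : SL qW := sl_of hsl (by simp)
  have sr : SL rW := sl_of hsl (by simp)
  have sc : SL cW := sl_of hsl (by simp)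
  have sn : SL nW := sl_of hsl (by simp)
  have st : SL tW := sl_of hsl (by simp)
  have s0 : SL rW0 := sl_of hsl (by simp)
  refine ⟨⟨sq, sr, sc, sn, st, s0⟩, ⟨?_, ?_, ?_, ?_⟩, ⟨?_, ?_⟩, ?_, ?_⟩
  · rw [← md_rep sq, ← md_nil]; exact sameW_spec (sq.rep _) SL.nil a
  · rw [← md_rep sr, ← md_nil]; exact sameW_spec (sr.rep _) SL.nil b
  · rw [← md_rep sr, ← md_nil]; exact sameW_ne (sr.rep _) SL.nil c
  · rw [← md_nil]; exact sameW_ne sq SL.nil d
  · rw [← md_rep sq, ← md_append sr sq, ← md_append (sq.rep _) sr]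
    exact sameW_spec (sr.append sq) ((sq.rep _).append sr) e
  · rw [← md_rep sq, ← md_append sc sq, ← md_append (sq.rep _) sc]
    exact sameW_spec (sc.append sq) ((sq.rep _).append sc) f
  · rw [← md_append sn sr, ← md_append sr sn]; exact sameW_spec (sn.append sr) (sr.append sn) g
  · rw [← md_append st s0, ← md_append sr st]; exact sameW_spec (st.append s0) (sr.append st) i

/-- point number `i` of the three -/
noncomputable def pP (i : Fin 3) : Pt :=
  if h : pAt i < 4060 then ⟨pAt i, h⟩ else 0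

/-- point number `i` fixed by the element of order four -/
noncomputable def aP (i : Fin 3) : Pt :=
  if h : aAt i < 4060 then ⟨aAt i, h⟩ else 0

theorem pt_facts : pP 0 = p1 ∧ Function.Injective pP ∧ Function.Injective aP ∧
    (∀ i, pP i ∈ SS ∧ md qW • pP i = pP i ∧ md rW • pP i = pP i) ∧
    (∀ i, aP i ∈ DS ∧ md rW • aP i = aP i) ∧
    (md cW • pP 0 = pP 1 ∧ md cW • pP 1 = pP 2) ∧
    (md nW • aP 0 = aP 1 ∧ md nW • aP 1 = aP 2 ∧ md nW • aP 2 = aP 0) ∧ md tW • d0 = aP 0 ∧ md rW0 • d0 = d0 := by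
  obtain ⟨⟨sq, sr, sc, sn, st, s0⟩, -⟩ := rel_facts
  have hd : pPts = [pAt 0, pAt 1, pAt 2] ∧ aPts = [aAt 0, aAt 1, aAt 2] ∧ pAt 0 = 1 ∧
      pPts.Nodup ∧ aPts.Nodup := by decide +kernel
  have h := rel_ok
  simp only [relOK, Bool.and_eq_true, Bool.not_eq_true', List.all_eq_true, ltB_iff] at h
  obtain ⟨⟨⟨⟨⟨⟨⟨⟨⟨⟨-, c1⟩, c2⟩, n1⟩, n2⟩, n3⟩, t⟩, -⟩, hp⟩, ha⟩, r0⟩ := h
  have hpm : ∀ i : Fin 3, pAt i ∈ pPts := by rw [hd.1]; intro i; fin_cases i <;> simp
  have ham : ∀ i : Fin 3, aAt i ∈ aPts := by rw [hd.2.1]; intro i; fin_cases i <;> simp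
  have vp : ∀ i : Fin 3, (pP i : ℕ) = pAt i := fun i => by
    rw [pP, dif_pos (hp _ (hpm i)).1.1.1]
  have va : ∀ i : Fin 3, (aP i : ℕ) = aAt i := fun i => by rw [aP, dif_pos (ha _ (ham i)).1.1]
  have mv : ∀ {w : List ℕ}, SL w → ∀ {x y : Pt} {a b : ℕ}, (x : ℕ) = a → (y : ℕ) = b →
      Nat.beq (pWord w a) b = true → md w • x = y := fun hw x y a b hx hy hb => Fin.ext (by
    rw [md_smul hw, hx, hy]; exact Nat.eq_of_beq_eq_true hb)
  have inj : ∀ f : Fin 3 → ℕ, [f 0, f 1, f 2].Nodup → Function.Injective f := fun f hf i j e => by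
    fin_cases i <;> fin_cases j <;> simp_all
  refine ⟨Fin.ext ((vp 0).trans hd.2.2.1), fun i j e => inj (fun i => pAt i) (hd.1 ▸ hd.2.2.2.1)
      (show pAt i = pAt j by rw [← vp, ← vp, e]),
    fun i j e => inj (fun i => aAt i) (hd.2.1 ▸ hd.2.2.2.2) (show aAt i = aAt j by rw [← va, ← va, e]),
    fun i => ?_, fun i => ?_,
    ⟨mv sc (vp 0) (vp 1) c1, mv sc (vp 1) (vp 2) c2⟩,
    ⟨mv sn (va 0) (va 1) n1, mv sn (va 1) (va 2) n2, mv sn (va 2) (va 0) n3⟩,
    mv st rfl (va 0) t, mv s0 rfl rfl r0⟩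
  · obtain ⟨⟨⟨-, h1⟩, h2⟩, h3⟩ := hp _ (hpm i)
    exact ⟨by rw [SS, mem_mset, vp]; exact h1, mv sq (vp i) (vp i) h2, mv sr (vp i) (vp i) h3⟩
  · obtain ⟨⟨-, h1⟩, h2⟩ := ha _ (ham i)
    exact ⟨by rw [DS, mem_mset, va]; exact h1, mv sr (va i) (va i) h2⟩

theorem only_p {x : Pt} (hx : x ∈ SS) (h : md qW • x = x) : ∃ i, pP i = x := by
  have h' := allUp_pt fixed13_ok x
  simp only [onlyFixed, strict_eq, show ltB (x : ℕ) 4060 = true from ltB_iff.mpr x.2, mem_mset.1 hx,
    Bool.and_self, pick_true, Bool.or_eq_true, Bool.not_eq_true', List.any_eq_true] at h'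
  rcases h' with ⟨a, ha, e⟩ | e
  · have hd : pPts = [pAt (0 : Fin 3), pAt (1 : Fin 3), pAt (2 : Fin 3)] := by decide +kernel
    rw [hd] at ha
    have e' := Nat.eq_of_beq_eq_true e
    have : ∀ i : Fin 3, a = pAt i → ∃ i, pP i = x := fun i hi => ⟨i, Fin.ext (by
      rw [pP, dif_pos (by rw [← hi, ← e']; exact x.2)]; exact hi.symm.trans e'.symm)⟩
    simp only [List.mem_cons, List.not_mem_nil, or_false] at ha
    rcases ha with ha | ha | ha
    exacts [this _ ha, this _ ha, this _ ha]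
  · exfalso
    rw [← md_smul rel_facts.1.1, h, Nat.beq_refl] at e
    exact Bool.noConfusion e

theorem only_a {x : Pt} (hx : x ∈ DS) (h : md rW • x = x) : ∃ i, aP i = x := by
  have h' := allUp_pt fixed4_ok x
  simp only [onlyFixed, strict_eq, show ltB (x : ℕ) 4060 = true from ltB_iff.mpr x.2, mem_mset.1 hx,
    Bool.and_self, pick_true, Bool.or_eq_true, Bool.not_eq_true', List.any_eq_true] at h'
  rcases h' with ⟨a, ha, e⟩ | e
  · have hd : aPts = [aAt (0 : Fin 3), aAt (1 : Fin 3), aAt (2 : Fin 3)] := by decide +kernel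
    rw [hd] at ha
    have e' := Nat.eq_of_beq_eq_true e
    have : ∀ i : Fin 3, a = aAt i → ∃ i, aP i = x := fun i hi => ⟨i, Fin.ext (by
      rw [aP, dif_pos (by rw [← hi, ← e']; exact x.2)]; exact hi.symm.trans e'.symm)⟩
    simp only [List.mem_cons, List.not_mem_nil, or_false] at ha
    rcases ha with ha | ha | ha
    exacts [this _ ha, this _ ha, this _ ha]
  · exfalso
    rw [← md_smul rel_facts.1.2.1, h, Nat.beq_refl] at e
    exact Bool.noConfusion e

/-- the subgroup of order thirteen -/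
noncomputable def QQ : Subgroup MM := Subgroup.zpowers (md qW)

theorem card_QQ : Nat.card ↥QQ = 13 := by
  haveI : Fact (Nat.Prime 13) := ⟨by norm_num⟩
  rw [QQ, Nat.card_zpowers]
  exact orderOf_eq_prime rel_facts.2.1.1 rel_facts.2.1.2.2.2

/-- its normalizer -/
noncomputable def NQ : Subgroup MM := Subgroup.normalizer (QQ : Set MM)

theorem mem_NQ_of {g : MM} {k : ℕ} (h : g * md qW = md qW ^ k * g) : g ∈ NQ := by
  have hmap : ∀ x ∈ QQ, g * x * g⁻¹ ∈ QQ := by
    intro x hx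
    obtain ⟨n, rfl⟩ := Subgroup.mem_zpowers_iff.1 hx
    rw [← conj_zpow]
    refine Subgroup.zpow_mem _ ?_ n
    rw [h, mul_inv_cancel_right]
    exact Subgroup.pow_mem _ (Subgroup.mem_zpowers _) _
  rw [NQ, Subgroup.mem_normalizer_iff]
  refine fun x => ⟨hmap x, fun hx => ?_⟩
  have hs : QQ.map (MulAut.conj g).toMonoidHom = QQ := by
    refine Subgroup.eq_of_le_of_card_ge ?_ (by rw [card_map_conj])
    rintro _ ⟨y, hy, rfl⟩
    exact hmap y hy
  rw [← hs] at hx
  obtain ⟨y, hy, e⟩ := hx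
  have : y = x := by simpa [MulAut.conj_apply] using e
  exact this ▸ hy

theorem QQ_le_NQ : QQ ≤ NQ := Subgroup.le_normalizer

theorem qW_mem_NQ : md qW ∈ NQ := QQ_le_NQ (Subgroup.mem_zpowers _)

theorem NQ_perm {g : MM} (hg : g ∈ NQ) (i : Fin 3) : ∃ j, g • pP i = pP j := by
  obtain ⟨j, e⟩ := only_p (x := g • pP i) (smul_SS.2 (pt_facts.2.2.2.1 i).1) (by
    have h : g⁻¹ * md qW * g ∈ QQ := by
      have := (Subgroup.mem_normalizer_iff.1 (inv_mem hg) (md qW)).1 (Subgroup.mem_zpowers _)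
      rwa [inv_inv] at this
    obtain ⟨n, hn⟩ := Subgroup.mem_zpowers_iff.1 h
    have hf : (g⁻¹ * md qW * g) • pP i = pP i := by
      rw [← hn]
      exact Subgroup.zpow_mem (stabilizer MM (pP i)) (pt_facts.2.2.2.1 i).2.1 n
    rw [mul_smul, mul_smul, inv_smul_eq_iff] at hf
    exact hf)
  exact ⟨j, e.symm⟩

/-- A count of Sylow subgroups. -/
theorem sylow13 (L : Subgroup MM) (hQ : QQ ≤ L) (h : ¬ 13 ^ 2 ∣ Nat.card ↥L) :
    ∃ n, n % 13 = 1 ∧ Nat.card ↥(NQ ⊓ L : Subgroup MM) * n = Nat.card ↥L ∧ n = (NQ.subgroupOf L).index := by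
  haveI : Fact (Nat.Prime 13) := ⟨by norm_num⟩
  have h13 : 13 ^ 1 ∣ Nat.card ↥L := by
    rw [pow_one, ← card_QQ]; exact Subgroup.card_dvd_of_le hQ
  have hfac : Nat.card ↥(QQ.subgroupOf L) = 13 ^ (Nat.card ↥L).factorization 13 := by
    have hne : Nat.card ↥L ≠ 0 := Nat.card_pos.ne'
    have h1 := ((by norm_num : Nat.Prime 13).pow_dvd_iff_le_factorization hne).1 h13
    have h2 : ¬ 2 ≤ (Nat.card ↥L).factorization 13 := fun h' =>
      h (((by norm_num : Nat.Prime 13).pow_dvd_iff_le_factorization hne).2 h')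
    rw [Nat.card_congr (Subgroup.subgroupOfEquivOfLe hQ).toEquiv, card_QQ,
      show (Nat.card ↥L).factorization 13 = 1 by omega, pow_one]
  let P : Sylow 13 ↥L := Sylow.ofCard (QQ.subgroupOf L) hfac
  have hN : Subgroup.normalizer (P : Set ↥L) = NQ.subgroupOf L := by
    ext x
    show x ∈ Subgroup.normalizer ((QQ.subgroupOf L : Subgroup ↥L) : Set ↥L) ↔ _
    rw [Subgroup.mem_subgroupOf, NQ, Subgroup.mem_normalizer_iff, Subgroup.mem_normalizer_iff]
    constructor
    · intro hx y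
      constructor
      · intro hy
        exact (hx ⟨y, hQ hy⟩).1 hy
      · intro hy
        have hyL : y ∈ L := by
          have := mul_mem (mul_mem (inv_mem x.2) (hQ hy)) x.2
          simpa [mul_assoc] using this
        exact (hx ⟨y, hyL⟩).2 hy
    · intro hx y
      exact hx y
  refine ⟨(NQ.subgroupOf L).index, ?_, ?_, rfl⟩
  · have := card_sylow_modEq_one 13 ↥L
    rw [Sylow.card_eq_index_normalizer P, hN] at this
    exact this
  · have := (NQ.subgroupOf L).card_mul_index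
    rw [Nat.card_congr (Subgroup.subgroupOfEquivOfLe (inf_le_right : NQ ⊓ L ≤ L)).toEquiv.symm]
    rw [Subgroup.inf_subgroupOf_right]
    exact this

theorem conj_facts : (∀ i : Fin 41, SL (conjW.getD i [])) ∧ (∀ i : Fin 41, md (conjW.getD i []) • p1 = p1) ∧
    ∀ i j : Fin 41, i.val < j.val → ({md (conjW.getD i []) • pP 1, md (conjW.getD i []) • pP 2} : Finset Pt) ≠
      {md (conjW.getD j []) • pP 1, md (conjW.getD j []) • pP 2} := by
  classical
  have h := conj_ok
  simp only [conjOK, Bool.and_eq_true, Bool.not_eq_true', List.all_eq_true, List.mem_range] at h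
  obtain ⟨⟨⟨hs, hf⟩, hl⟩, hd⟩ := h
  have hmem : ∀ i : Fin 41, conjW.getD i [] ∈ conjW := fun i => by
    rw [List.getD_eq_getElem _ _ (by rw [Nat.eq_of_beq_eq_true hl]; exact i.2)]; exact List.getElem_mem _
  have hsl := fun i : Fin 41 => sl_of hs (hmem i)
  simp only [fixOK, List.all_eq_true] at hf
  refine ⟨hsl, fun i => Fin.ext ((md_smul (hsl i) p1).trans (Nat.eq_of_beq_eq_true (hf _ (hmem i)))), ?_⟩
  intro i j hij e
  have hv : ∀ i : Fin 3, (pP i : ℕ) = pAt i := fun i => by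
    rw [pP, dif_pos]
    have hd : ∀ i : Fin 3, pAt i < 4060 := by decide +kernel
    exact hd i
  have key : ∀ k : Fin 41, ∀ x : ℕ, (triple (conjW.getD k [])).testBit x = true ↔
      ∃ y ∈ ({md (conjW.getD k []) • pP 1, md (conjW.getD k []) • pP 2} : Finset Pt), (y : ℕ) = x := fun k x => by
    simp only [triple, Nat.testBit_or, Bool.or_eq_true, Nat.testBit_two_pow, decide_eq_true_eq,
      Finset.mem_insert, Finset.mem_singleton, exists_eq_or_imp, exists_eq_left, md_smul (hsl k), hv]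
    rfl
  have := hd j.val j.2 i.val hij
  rw [show triple (conjW.getD j.val []) = triple (conjW.getD i.val []) from
    Nat.eq_of_testBit_eq fun x => Bool.eq_iff_iff.2 (by rw [key j, key i, e]), Nat.beq_refl] at this
  exact Bool.noConfusion this

theorem card_NQ_stab : Nat.card ↥(NQ ⊓ stabilizer MM p1 : Subgroup MM) = 52 := by
  classical
  have hq1 : QQ ≤ stabilizer MM p1 := by
    rw [QQ, Subgroup.zpowers_le, ← pt_facts.1]; exact (pt_facts.2.2.2.1 0).2.1
  obtain ⟨n, hn1, hn2, hn3⟩ := sylow13 (stabilizer MM p1) hq1 (by rw [card_stab_p1]; norm_num)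
  obtain ⟨-, hfix, hdist⟩ := conj_facts
  let w : Fin 41 → ↥(stabilizer MM p1) := fun i => ⟨md (conjW.getD i []), hfix i⟩
  have h41 : 41 ≤ n := by
    rw [hn3, Subgroup.index]
    refine le_trans (by simp) (Nat.card_le_card_of_injective (fun i => (w i : ↥(stabilizer MM p1) ⧸ NQ.subgroupOf _)) ?_)
    intro i j e
    rw [QuotientGroup.eq, Subgroup.mem_subgroupOf] at e
    by_contra hne
    have key : ∀ i j : Fin 41, ((w i : MM)⁻¹ * (w j : MM)) ∈ NQ →
        ({md (conjW.getD i []) • pP 1, md (conjW.getD i []) • pP 2} : Finset Pt) =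
          {md (conjW.getD j []) • pP 1, md (conjW.getD j []) • pP 2} := by
      intro i j hm
      set m : MM := (w i : MM)⁻¹ * w j
      have hm1 : m • p1 = p1 := (((w i)⁻¹ * w j).2 : _)
      have him : ∀ k : Fin 3, k ≠ 0 → ∃ l : Fin 3, l ≠ 0 ∧ m • pP k = pP l := fun k hk => by
        obtain ⟨l, hl⟩ := NQ_perm hm k
        refine ⟨l, fun h0 => hk (pt_facts.2.1 (MulAction.injective m ?_)), hl⟩
        show m • pP k = m • pP 0
        rw [hl, h0, pt_facts.1, hm1]
      have hmap : (({pP 1, pP 2} : Finset Pt)).image (fun x => m • x) = {pP 1, pP 2} := by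
        refine Finset.eq_of_subset_of_card_le (fun x hx => ?_) (by
          rw [Finset.card_image_of_injective _ (MulAction.injective m)])
        obtain ⟨y, hy, rfl⟩ := Finset.mem_image.1 hx
        simp only [Finset.mem_insert, Finset.mem_singleton] at hy ⊢
        rcases hy with rfl | rfl
        · obtain ⟨l, hl0, hl⟩ := him 1 (by decide)
          rw [hl]; fin_cases l <;> simp_all
        · obtain ⟨l, hl0, hl⟩ := him 2 (by decide)
          rw [hl]; fin_cases l <;> simp_all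
      have := congrArg (fun s => s.image (fun x => (w i : MM) • x)) hmap
      simp only [Finset.image_image, Finset.image_insert, Finset.image_singleton, Function.comp_apply, m,
        ← mul_smul, mul_inv_cancel_left] at this
      exact this.symm
    rcases lt_trichotomy i.val j.val with h | h | h
    · exact hdist i j h (key i j e)
    · exact hne (Fin.ext h)
    · exact hdist j i h (key i j e).symm
  have h13 : 13 ∣ Nat.card ↥(NQ ⊓ stabilizer MM p1 : Subgroup MM) := by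
    rw [← card_QQ]; exact Subgroup.card_dvd_of_le (le_inf QQ_le_NQ hq1)
  rw [card_stab_p1] at hn2
  obtain ⟨c, hc⟩ := h13
  rw [hc] at hn2 ⊢
  have hcn : c * n = 1200 := by nlinarith
  have hc30 : c ≤ 29 := by nlinarith
  have hn' : n = 1200 / c := by
    rw [← hcn, Nat.mul_div_cancel_left]; rcases Nat.eq_zero_or_pos c with rfl | h <;> omega
  interval_cases c <;> omega

/-- the elements of the normalizer fixing the three points -/
noncomputable def PP : Subgroup MM := NQ ⊓ ⨅ i, stabilizer MM (pP i)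

theorem mem_PP {g : MM} : g ∈ PP ↔ g ∈ NQ ∧ ∀ i, g • pP i = pP i := by
  simp [PP, Subgroup.mem_inf, Subgroup.mem_iInf]

theorem rW_mem_NQ : md rW ∈ NQ := mem_NQ_of rel_facts.2.2.1.1

theorem orderOf_r : orderOf (md rW) = 4 := by
  haveI : Fact (Nat.Prime 2) := ⟨Nat.prime_two⟩
  have := orderOf_eq_prime_pow (x := md rW) (p := 2) (n := 1) (by simpa using rel_facts.2.1.2.2.1)
    (by simpa using rel_facts.2.1.2.1)
  simpa using this

theorem card_PP : Nat.card ↥PP = 52 ∧ ∀ i, NQ ⊓ stabilizer MM (pP i) = PP ∧ Nat.card ↥NQ = 156 := by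
  classical
  have hle : PP ≤ NQ ⊓ stabilizer MM p1 := fun g hg => by
    obtain ⟨h1, h2⟩ := mem_PP.1 hg
    exact ⟨h1, by rw [← pt_facts.1]; exact h2 0⟩
  have hq : md qW ∈ PP := mem_PP.2 ⟨qW_mem_NQ, fun i => (pt_facts.2.2.2.1 i).2.1⟩
  have hr : md rW ∈ PP := mem_PP.2 ⟨rW_mem_NQ, fun i => (pt_facts.2.2.2.1 i).2.2⟩
  have h52 : 52 ∣ Nat.card ↥PP := by
    refine (Nat.Coprime.mul_dvd_of_dvd_of_dvd (by norm_num : Nat.Coprime 13 4) ?_ ?_)
    · rw [← card_QQ]; exact Subgroup.card_dvd_of_le (Subgroup.zpowers_le.2 hq)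
    · rw [← orderOf_r, ← Nat.card_zpowers]; exact Subgroup.card_dvd_of_le (Subgroup.zpowers_le.2 hr)
  have hc : Nat.card ↥PP = 52 := by
    have h1 := Subgroup.card_le_of_le hle
    rw [card_NQ_stab] at h1
    have h2 : 0 < Nat.card ↥PP := Nat.card_pos
    obtain ⟨k, hk⟩ := h52
    omega
  refine ⟨hc, fun i => ?_⟩
  have hcc : md cW ∈ NQ := mem_NQ_of rel_facts.2.2.1.2
  obtain ⟨-, -, -, -, -, ⟨hc1, hc2⟩, -⟩ := pt_facts
  have ho : ∀ k : Fin 3, (orbit ↥NQ (pP k)) = Set.range pP := by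
    intro k
    have h0 : ∀ j : Fin 3, pP j ∈ orbit ↥NQ (pP 0) := by
      intro j
      fin_cases j
      · exact mem_orbit_self _
      · exact ⟨⟨_, hcc⟩, hc1⟩
      · exact ⟨⟨_, hcc⟩ * ⟨_, hcc⟩, by
          show (md cW * md cW) • pP 0 = pP 2
          rw [mul_smul, hc1, hc2]⟩
    ext x
    constructor
    · rintro ⟨g, rfl⟩
      obtain ⟨j, hj⟩ := NQ_perm g.2 k
      exact ⟨j, hj.symm⟩
    · rintro ⟨j, rfl⟩
      rw [orbit_eq_iff.2 (h0 k)]
      exact h0 j
  have hidx : ∀ k : Fin 3, Nat.card ↥(NQ ⊓ stabilizer MM (pP k) : Subgroup MM) * 3 = Nat.card ↥NQ := by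
    intro k
    have h := (stabilizer ↥NQ (pP k)).card_mul_index
    rw [index_stabilizer, ho, Set.ncard_range_of_injective pt_facts.2.1, Nat.card_fin] at h
    rw [← h]
    congr 1
    exact Nat.card_congr
      { toFun := fun g => ⟨⟨g.1, g.2.1⟩, g.2.2⟩
        invFun := fun g => ⟨g.1.1, g.1.2, g.2⟩
        left_inv := fun _ => rfl
        right_inv := fun _ => rfl }
  have h156 : Nat.card ↥NQ = 156 := by
    have := hidx 0
    rw [pt_facts.1, card_NQ_stab] at this
    omega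
  refine ⟨(Subgroup.eq_of_le_of_card_ge (le_inf inf_le_left fun g hg => (mem_PP.1 hg).2 i) ?_).symm, h156⟩
  show _ ≤ Nat.card ↥PP
  have := hidx i
  omega

/-! ### Index 2304 -/

theorem QQ_le_PP : QQ ≤ PP := Subgroup.zpowers_le.2 (mem_PP.2 ⟨qW_mem_NQ, fun i => (pt_facts.2.2.2.1 i).2.1⟩)

theorem fin3_other : ∀ j : Fin 3, j ≠ 0 → ∃ m, m ≠ 0 ∧ m ≠ j := by decide

theorem fin3_last : ∀ j m p : Fin 3, j ≠ 0 → m ≠ 0 → m ≠ j → p ≠ j → p ≠ 0 → p = m := by decide

theorem fin3_cycle : ∀ j k l : Fin 3, j ≠ 0 → k ≠ j → k ≠ 0 → l ≠ k → l ≠ j → l = 0 := by decide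

theorem PP_le_of {K : Subgroup MM} (hK : Nat.card ↥K = 15600) (hQ : QQ ≤ K) :
    PP ≤ K ∧ NQ ⊓ K = PP := by
  classical
  obtain ⟨n, hn1, hn2, -⟩ := sylow13 K hQ (by rw [hK]; norm_num)
  have hN : Nat.card ↥NQ = 156 := (card_PP.2 0).2
  have hd : Nat.card ↥(NQ ⊓ K : Subgroup MM) ∣ 156 := hN ▸ Subgroup.card_dvd_of_le inf_le_left
  have hc : Nat.card ↥(NQ ⊓ K : Subgroup MM) = 52 := by
    have hdec : ∀ m ∈ Nat.divisors 156, (15600 / m) % 13 = 1 → m = 52 := by decide +kernel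
    refine hdec _ (Nat.mem_divisors.2 ⟨hd, by norm_num⟩) ?_
    rw [show 15600 / Nat.card ↥(NQ ⊓ K : Subgroup MM) = n by
      rw [← hK, ← hn2, Nat.mul_div_cancel_left _ Nat.card_pos]]
    exact hn1
  have hle : NQ ⊓ K ≤ PP := by
    intro x hx
    have h52 : x ^ 52 = 1 := by
      rw [← hc]
      exact congrArg Subtype.val (pow_card_eq_one' (x := (⟨x, hx⟩ : ↥(NQ ⊓ K : Subgroup MM))))
    have hfix : ∀ i, x • pP i = pP i → x ∈ PP := fun i hi => (card_PP.2 i).1 ▸ ⟨hx.1, hi⟩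
    obtain ⟨j, hj⟩ := NQ_perm hx.1 0
    by_cases h0 : j = 0
    · exact hfix 0 (by rw [hj, h0])
    obtain ⟨k, hk⟩ := NQ_perm hx.1 j
    by_cases hkj : k = j
    · exact hfix j (by rw [hk, hkj])
    obtain ⟨l, hl⟩ := NQ_perm hx.1 k
    by_cases hlk : l = k
    · exact hfix k (by rw [hl, hlk])
    by_cases hk0 : k = 0
    · -- a transposition fixes the third point
      subst hk0
      obtain ⟨m, hm0, hmj⟩ := fin3_other j h0
      obtain ⟨p, hp⟩ := NQ_perm hx.1 m
      refine hfix m ?_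
      have i0 : p ≠ j := fun e => hm0 (pt_facts.2.1 (MulAction.injective x (show x • pP m = x • pP 0 by
        rw [hp, hj, e])))
      have i1 : p ≠ 0 := fun e => hmj (pt_facts.2.1 (MulAction.injective x (show x • pP m = x • pP j by
        rw [hp, hk, e])))
      rw [hp]
      exact congrArg pP (fin3_last j m p h0 hm0 hmj i0 i1)
    exfalso
    have h3 : (x ^ 3) • pP 0 = pP 0 := by
      have hl0 : l = 0 := by
        have i0 : l ≠ j := fun e => hk0 (pt_facts.2.1 (MulAction.injective x (show x • pP k = x • pP 0 by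
          rw [hl, hj, e])))
        exact fin3_cycle j k l h0 hkj hk0 hlk i0
      rw [pow_succ, pow_succ, pow_one, mul_smul, mul_smul, hj, hk, hl, hl0]
    have h51 : (x ^ 51) • pP 0 = pP 0 := by
      rw [show (51 : ℕ) = 3 * 17 by norm_num, pow_mul]
      exact Subgroup.pow_mem (stabilizer MM (pP 0)) h3 17
    have := congrArg (fun g : MM => g • pP 0) h52
    simp only [one_smul] at this
    rw [pow_succ', mul_smul, h51, hj] at this
    exact h0 (pt_facts.2.1 this)
  have he := Subgroup.eq_of_le_of_card_ge hle (by rw [card_PP.1, hc])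
  exact ⟨he ▸ inf_le_right, he⟩

theorem dichotomy {K : Subgroup MM} (hK : Nat.card ↥K = 15600) (hQ : QQ ≤ K) (i : Fin 3) :
    K ≤ stabilizer MM (pP i) ∨ K ⊓ stabilizer MM (pP i) = PP := by
  classical
  obtain ⟨hPK, hNK⟩ := PP_le_of hK hQ
  set L := K ⊓ stabilizer MM (pP i)
  have hPL : PP ≤ L := le_inf hPK fun g hg => (mem_PP.1 hg).2 i
  obtain ⟨n, hn1, hn2, -⟩ := sylow13 L (QQ_le_PP.trans hPL) (fun h => by
    have := h.trans (Subgroup.card_dvd_of_le (inf_le_left : L ≤ K))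
    rw [hK] at this
    norm_num at this)
  have hNL : NQ ⊓ L = PP := le_antisymm (fun x hx => hNK ▸ ⟨hx.1, hx.2.1⟩)
    (le_inf (fun x hx => (mem_PP.1 hx).1) hPL)
  rw [hNL, card_PP.1] at hn2
  have hd : n ∣ 300 := by
    have := Subgroup.card_dvd_of_le (inf_le_left : L ≤ K)
    rw [← hn2, hK, show (15600 : ℕ) = 52 * 300 by norm_num] at this
    exact (Nat.mul_dvd_mul_iff_left (by norm_num)).1 this
  have hdec : ∀ m ∈ Nat.divisors 300, m % 13 = 1 → m = 1 ∨ m = 300 := by decide +kernel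
  rcases hdec n (Nat.mem_divisors.2 ⟨hd, by norm_num⟩) hn1 with h | h
  · right
    exact (Subgroup.eq_of_le_of_card_ge hPL (by rw [card_PP.1]; omega)).symm
  · left
    have : L = K := Subgroup.eq_of_le_of_card_ge inf_le_left (by rw [hK]; omega)
    exact this ▸ inf_le_right

theorem no_map {K : Subgroup MM} (hK : Nat.card ↥K = 15600) (hQ : QQ ≤ K) {i j : Fin 3} (hij : i ≠ j)
    {g : MM} (hg : g ∈ K) (e : g • pP i = pP j) : ∃ k, K ≤ stabilizer MM (pP k) := by
  classical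
  rcases dichotomy hK hQ i with h | h
  · exact ⟨i, h⟩
  exfalso
  obtain ⟨hPK, -⟩ := PP_le_of hK hQ
  haveI : Fact (Nat.Prime 13) := ⟨by norm_num⟩
  set y := g⁻¹ * md qW * g
  have hy : y ∈ PP := by
    rw [← h]
    refine ⟨mul_mem (mul_mem (K.inv_mem hg) (hQ (Subgroup.mem_zpowers _))) hg, ?_⟩
    show y • pP i = pP i
    rw [mul_smul, mul_smul, e, (pt_facts.2.2.2.1 j).2.1, inv_smul_eq_iff, e]
  have hyN : Subgroup.zpowers y ≤ NQ := Subgroup.zpowers_le.2 (mem_PP.1 hy).1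
  have hoy : orderOf y = 13 := by
    refine orderOf_eq_prime ?_ fun h1 => rel_facts.2.1.2.2.2 ?_
    · rw [show y = (MulAut.conj g⁻¹) (md qW) by simp [y, MulAut.conj_apply], ← map_pow, rel_facts.2.1.1, map_one]
    · have := congrArg (fun z => g * z * g⁻¹) h1
      simpa [y, mul_assoc] using this
  have hp : IsPGroup 13 ↥(QQ ⊔ Subgroup.zpowers y : Subgroup MM) := by
    rw [sup_comm]
    exact IsPGroup.to_sup_of_normal_right' (IsPGroup.of_card (n := 1) (by rw [Nat.card_zpowers, hoy, pow_one]))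
      (IsPGroup.of_card (n := 1) (by rw [card_QQ, pow_one])) hyN
  have hle : QQ ⊔ Subgroup.zpowers y ≤ PP := sup_le QQ_le_PP (Subgroup.zpowers_le.2 hy)
  obtain ⟨k, hk⟩ := IsPGroup.iff_card.1 hp
  have hdv := Subgroup.card_dvd_of_le hle
  rw [hk, card_PP.1] at hdv
  have hk1 : k ≤ 1 := by
    by_contra hc
    have := (pow_dvd_pow 13 (show 2 ≤ k by omega)).trans hdv
    norm_num at this
  have hsup : QQ = QQ ⊔ Subgroup.zpowers y := Subgroup.eq_of_le_of_card_ge le_sup_left (by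
    rw [hk, card_QQ]
    interval_cases k <;> norm_num)
  have hyQ : y ∈ QQ := by rw [hsup]; exact Subgroup.mem_sup_right (Subgroup.mem_zpowers _)
  have hgN : g⁻¹ ∈ NQ := by
    obtain ⟨n, hn⟩ := Subgroup.mem_zpowers_iff.1 hyQ
    refine mem_NQ_of (k := (n % 13).toNat) ?_
    have e13 : md qW ^ n = md qW ^ (n % 13).toNat := by
      rw [← zpow_natCast, Int.toNat_of_nonneg (Int.emod_nonneg _ (by norm_num)), ← zpow_mod_orderOf,
        orderOf_eq_prime rel_facts.2.1.1 rel_facts.2.1.2.2.2]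
      rfl
    rw [← e13, hn]
    simp [y, mul_assoc]
  have : g ∈ PP := (PP_le_of hK hQ).2 ▸ ⟨by simpa using inv_mem hgN, hg⟩
  rw [(mem_PP.1 this).2 i] at e
  exact hij (pt_facts.2.1 e)

theorem pow_mem_zpowers_r {y : MM} (h : y ∈ Subgroup.zpowers (md rW0)) :
    ∃ k < 4, y = md rW0 ^ k := by
  obtain ⟨n, rfl⟩ := Subgroup.mem_zpowers_iff.1 h
  refine ⟨(n % 4).toNat, by omega, ?_⟩
  have h4 : md rW0 ^ 4 = 1 := by
    have e : md rW0 = (md tW)⁻¹ * md rW * md tW := by
      rw [mul_assoc, ← rel_facts.2.2.2.2, inv_mul_cancel_left]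
    rw [e, show (md tW)⁻¹ * md rW * md tW = MulAut.conj (md tW)⁻¹ (md rW) by simp [MulAut.conj_apply],
      ← map_pow, rel_facts.2.1.2.1, map_one]
  rw [← zpow_natCast, Int.toNat_of_nonneg (Int.emod_nonneg _ (by norm_num))]
  conv_lhs => rw [← Int.emod_add_mul_ediv n 4, _root_.zpow_add, _root_.zpow_mul, zpow_ofNat, h4, _root_.one_zpow, mul_one]

theorem trans_facts : (∀ v ∈ vW, SL v ∧ md v • d0 = d0) ∧ (∀ u ∈ wW, SL u ∧ md u • d0 = d0 ∧ md u • q2 = q2) ∧
    (∀ x : Pt, x ∈ orbF (stabilizer MM d0) q2 → ∃ v ∈ vW, pWord v 2 = x) ∧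
    ∀ m : MM, m • d0 = d0 → m • q2 = q2 → ∃ u ∈ wW, pWord u 1 = (m • p1 : Pt) := by
  have h := trans_ok
  simp only [transOK, strict_eq, Bool.and_eq_true, List.all_eq_true, ltB_iff] at h
  obtain ⟨⟨⟨hv, hu⟩, hv4⟩, hu6⟩ := h.1
  obtain ⟨-, ⟨⟨⟨h22, h11⟩, -⟩, hcl2⟩, hcl1⟩ := h
  have f2 : ∀ g ∈ [4, 5, 6, 7, 8], pImg g 65 = 65 := by decide +kernel
  have f3 : ∀ g ∈ [6, 7, 8], pImg g 2 = 2 := by decide +kernel
  have hfix : ∀ {w : List ℕ} (a lo : ℕ) (x : Pt), (x : ℕ) = a → (∀ g ∈ w, lo < g ∧ g < 9) → 1 ≤ lo →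
      (∀ g, lo < g → g < 9 → pImg g a = a) → md w • x = x := by
    intro w a lo x hx hw hlo hf
    have hsl : SL w := fun g hg => ⟨by have := (hw g hg).1; omega, (hw g hg).2⟩
    refine Fin.ext ((md_smul hsl x).trans ?_)
    rw [hx]
    clear hsl
    induction w with
    | nil => rfl
    | cons g w ih =>
      rw [pWord_cons, ih fun k hk => hw k (List.mem_cons_of_mem _ hk)]
      exact hf g (hw g List.mem_cons_self).1 (hw g List.mem_cons_self).2
  have e2 : ∀ g, 3 < g → g < 9 → pImg g 65 = 65 := fun g a b => f2 g (by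
    simp only [List.mem_cons, List.not_mem_nil, or_false]; omega)
  have e3 : ∀ g, 5 < g → g < 9 → pImg g 2 = 2 := fun g a b => f3 g (by
    simp only [List.mem_cons, List.not_mem_nil, or_false]; omega)
  have hfold : ∀ (l : List (List ℕ)) (a : ℕ) (y : ℕ), (l.foldr (fun v m => m ||| 2 ^ pWord v a) 0).testBit y = true ↔
      ∃ v ∈ l, pWord v a = y := fun l a y => by
    induction l with
    | nil => simp
    | cons v l ih =>
      rw [List.foldr_cons, Nat.testBit_or, Bool.or_eq_true, ih, Nat.testBit_two_pow, decide_eq_true_eq]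
      simp only [List.mem_cons, exists_eq_or_imp]
      exact or_comm
  refine ⟨fun v hv' => ⟨sl_of hv hv', hfix 65 3 d0 rfl (fun g hg => ⟨hv4 v hv' g hg, (sl_of hv hv' g hg).2⟩)
      (by norm_num) e2⟩,
    fun u hu' => ?_, fun x hx => ?_, fun m hm hm2 => ?_⟩
  · have hb : ∀ g ∈ u, 5 < g ∧ g < 9 := fun g hg => ⟨hu6 u hu' g hg, (sl_of hu hu' g hg).2⟩
    exact ⟨sl_of hu hu', hfix 65 5 d0 rfl hb (by norm_num) (fun g a b => e2 g (by omega) b),
      hfix 2 5 q2 rfl hb (by norm_num) e3⟩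
  · obtain ⟨l, hl, rfl⟩ := mem_orbF.1 hx
    have key : ∀ f ∈ Subgroup.closure (lineGen '' {g | g ∈ [4, 5, 6, 7, 8]}),
        f • mset (vW.foldr (fun v m => m ||| 2 ^ pWord v 2) 0) = mset (vW.foldr (fun v m => m ||| 2 ^ pWord v 2) 0) := by
      show Subgroup.closure _ ≤ stabilizer (Equiv.Perm Pt) _
      rw [Subgroup.closure_le]
      rintro _ ⟨k, hk, rfl⟩
      refine Finset.eq_of_subset_of_card_le (fun y hy => ?_) (by rw [Finset.card_smul_finset])
      obtain ⟨z, hz, rfl⟩ := Finset.mem_smul_finset.1 hy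
      obtain ⟨v, hv', e⟩ := (hfold _ _ _).1 (mem_mset.1 hz)
      have hk9 : k < 9 := by
        simp only [Set.mem_ofPred_eq, List.mem_cons, List.not_mem_nil, or_false] at hk
        omega
      rw [mem_mset, show ((lineGen k • z : Pt) : ℕ) = pImg k z from
        (lineGen_apply (by omega) z).trans (pImg_eq hk9 z).symm, ← e]
      exact hcl2 v hv' k hk
    have hl' := ((tail_chain l.1.2 l.2).2 (congrArg id (mem_stabilizer_iff.1 hl))).1
    have h2 : q2 ∈ mset (vW.foldr (fun v m => m ||| 2 ^ pWord v 2) 0) := mem_mset.2 h22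
    have hx2 : l • q2 ∈ mset (vW.foldr (fun v m => m ||| 2 ^ pWord v 2) 0) := by
      rw [← key _ hl']; exact Finset.smul_mem_smul_finset h2
    exact (hfold _ _ _).1 (mem_mset.1 hx2)
  · have key : ∀ f ∈ Subgroup.closure (lineGen '' {g | g ∈ [6, 7, 8]}),
        f • mset (wW.foldr (fun v m => m ||| 2 ^ pWord v 1) 0) = mset (wW.foldr (fun v m => m ||| 2 ^ pWord v 1) 0) := by
      show Subgroup.closure _ ≤ stabilizer (Equiv.Perm Pt) _
      rw [Subgroup.closure_le]
      rintro _ ⟨k, hk, rfl⟩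
      refine Finset.eq_of_subset_of_card_le (fun y hy => ?_) (by rw [Finset.card_smul_finset])
      obtain ⟨z, hz, rfl⟩ := Finset.mem_smul_finset.1 hy
      obtain ⟨v, hv', e⟩ := (hfold _ _ _).1 (mem_mset.1 hz)
      have hk9 : k < 9 := by
        simp only [Set.mem_ofPred_eq, List.mem_cons, List.not_mem_nil, or_false] at hk
        omega
      rw [mem_mset, show ((lineGen k • z : Pt) : ℕ) = pImg k z from
        (lineGen_apply (by omega) z).trans (pImg_eq hk9 z).symm, ← e]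
      exact hcl1 v hv' k hk
    have hl' := (((tail_chain m.1.2 m.2).2 hm).2 hm2).1
    have hx1 : m • p1 ∈ mset (wW.foldr (fun v m => m ||| 2 ^ pWord v 1) 0) := by
      rw [← key _ hl']; exact Finset.smul_mem_smul_finset (mem_mset.2 h11)
    exact (hfold _ _ _).1 (mem_mset.1 hx1)

theorem inPowers_spec {m : MM} {y x : Pt} (h : ∃ k < 4, m = md rW0 ^ k) (e : m • y = x) :
    inPowers y x = true := by
  obtain ⟨k, hk, rfl⟩ := h
  have hs := rel_facts.1.2.2.2.2.2
  simp only [inPowers, strict_eq, Bool.or_eq_true, ← md_smul hs]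
  subst e
  interval_cases k
  · left; simp
  · right; left; rw [pow_one]; simp
  · right; right; left; rw [pow_two, mul_smul]; simp
  · right; right; right; rw [pow_succ', pow_two, mul_smul, mul_smul]; simp

theorem candidates_ok {v u : List ℕ} (hv : v ∈ vW) (hu : u ∈ wW) : candOK v u = true := by
  obtain ⟨i, hi, rfl⟩ := List.mem_iff_getElem.1 hv
  have hlen : vW.length = 1280 := by decide +kernel
  have hall : ∀ j, j < 8 → candsOK ((vW.drop (160 * j)).take 160) = true := by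
    intro j hj
    interval_cases j
    exacts [cands0, cands1, cands2, cands3, cands4, cands5, cands6, cands7]
  have h := hall (i / 160) (by omega)
  simp only [candsOK, List.all_eq_true] at h
  refine h _ ?_ u hu
  rw [List.mem_iff_getElem]
  refine ⟨i % 160, ?_, ?_⟩
  · rw [List.length_take, List.length_drop]; omega
  · rw [List.getElem_take, List.getElem_drop]
    congr 1
    omega

theorem normalizer_list {w : MM} (h65 : w • d0 = d0) (hn : w * md rW0 * w⁻¹ ∈ Subgroup.zpowers (md rW0))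
    (h2 : w * w ∈ Subgroup.zpowers (md rW0)) :
    ∃ e ∈ goodL, SL (goodWord e) ∧ w = md (goodWord e) := by
  classical
  obtain ⟨hv, hu, horb, hu'⟩ := trans_facts
  obtain ⟨v0, hv0, ev0⟩ := horb (w • q2) (mem_orbF.2 ⟨w, h65, rfl⟩)
  obtain ⟨v, hvf⟩ : ∃ v, (vW.find? fun v => Nat.beq (pWord v 2) (w • q2 : Pt)) = some v := by
    rw [← Option.isSome_iff_exists, List.find?_isSome]
    exact ⟨v0, hv0, by rw [ev0]; exact Nat.beq_refl _⟩
  have hvm := List.mem_of_find?_eq_some hvf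
  have hve : pWord v 2 = (w • q2 : Pt) := Nat.eq_of_beq_eq_true (List.find?_some hvf :)
  obtain ⟨svl, v65⟩ := hv v hvm
  have hv2 : md v • q2 = w • q2 := Fin.ext ((md_smul svl q2).trans hve)
  set m := (md v)⁻¹ * w
  have m65 : m • d0 = d0 := by rw [mul_smul, h65, inv_smul_eq_iff, v65]
  have m2 : m • q2 = q2 := by rw [mul_smul, inv_smul_eq_iff, hv2]
  obtain ⟨u0, hu0, eu0⟩ := hu' m m65 m2
  obtain ⟨u, huf⟩ : ∃ u, (wW.find? fun u => Nat.beq (pWord u 1) (m • p1 : Pt)) = some u := by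
    rw [← Option.isSome_iff_exists, List.find?_isSome]
    exact ⟨u0, hu0, by rw [eu0]; exact Nat.beq_refl _⟩
  have hum := List.mem_of_find?_eq_some huf
  have hue : pWord u 1 = (m • p1 : Pt) := Nat.eq_of_beq_eq_true (List.find?_some huf :)
  obtain ⟨sul, u65, u2⟩ := hu u hum
  have hmu : m = md u := by
    refine (inv_mul_eq_one.1 (eq_one_of_four (m := (md u)⁻¹ * m) ?_ ?_ ?_)).symm
    · rw [mul_smul, m65, inv_smul_eq_iff, u65]
    · rw [mul_smul, m2, inv_smul_eq_iff, u2]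
    · rw [mul_smul, inv_smul_eq_iff]
      exact Fin.ext (hue.symm.trans (md_smul sul p1).symm)
  have hw : w = md v * md u := by rw [← hmu, mul_inv_cancel_left]
  have hwd : ∀ x : Pt, pWord v (pWord u x) = ((w • x : Pt) : ℕ) := fun x => by
    rw [hw, mul_smul, md_smul svl, md_smul sul]
  have hvu : ∀ x : Pt, pWord (v ++ u) x = ((w • x : Pt) : ℕ) := fun x => by
    rw [hw, ← md_append svl sul, md_smul (svl.append sul)]
  obtain ⟨-, -, -, -, -, -, -, -, hr65⟩ := pt_facts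
  have hr : ∀ x : Pt, pWord rW0 x = ((md rW0 • x : Pt) : ℕ) := fun x => (md_smul rel_facts.1.2.2.2.2.2 x).symm
  have hconj : ∀ x : Pt, inPowers ((w • x : Pt) : ℕ) ((w • (md rW0 • x) : Pt) : ℕ) = true := fun x =>
    inPowers_spec (pow_mem_zpowers_r hn) (by rw [← mul_smul, ← mul_smul, inv_mul_cancel_right])
  have hsq : ∀ x : Pt, inPowers (x : ℕ) ((w • (w • x) : Pt) : ℕ) = true := fun x =>
    inPowers_spec (pow_mem_zpowers_r h2) (by rw [← mul_smul])
  have h := candidates_ok hvm hum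
  have ht0 : test0 v u = true := by
    have e : pWord v (pWord u 2) = ((w • q2 : Pt) : ℕ) := hwd q2
    have e' : pWord rW0 2 = ((md rW0 • q2 : Pt) : ℕ) := hr q2
    rw [test0, e, e', hwd]
    exact hconj q2
  have ht : testsAll v u = true := by
    simp only [testsAll, List.all_eq_true, strict_eq, Bool.and_eq_true]
    intro p hp
    have hlt : ∀ p ∈ testPts, p < 4060 := by decide +kernel
    have e : p = ((⟨p, hlt p hp⟩ : Pt) : ℕ) := rfl
    rw [e, hvu, hr, hvu, hvu]
    exact ⟨hconj _, hsq _⟩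
  rw [candOK, ht0, pick_true, ht, pick_true] at h
  simp only [List.any_eq_true, Bool.and_eq_true] at h
  obtain ⟨e, he, e1, e2⟩ := h
  refine ⟨e, he, ?_⟩
  have eg : goodWord e = v ++ u := by
    have hu1 : pWord u 1 = ((m • p1 : Pt) : ℕ) := hue
    rw [goodWord, Nat.eq_of_beq_eq_true e1, Nat.eq_of_beq_eq_true e2, hve, hu1, hvf, huf]
    rfl
  rw [eg]
  exact ⟨svl.append sul, by rw [hw, md_append svl sul]⟩

theorem z_all {i : ℕ} (hi : i < 96) : zOK i = true := by
  have h : ∀ j < 4, ((List.range 24).all fun i => zOK (i + 24 * j)) = true := by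
    intro j hj
    interval_cases j
    exacts [z0, z1, z2, z3]
  have := List.all_eq_true.1 (h (i / 24) (by omega)) (i % 24) (List.mem_range.2 (Nat.mod_lt _ (by norm_num)))
  rwa [show i % 24 + 24 * (i / 24) = i by omega] at this

/-- Subgroups of index 2304 fix a point of the second suborbit. -/
theorem index2304 (K0 : Subgroup MM) (hK0 : Nat.card ↥K0 = 15600) : ∃ i ∈ SS, K0 = stabilizer MM i := by
  classical
  haveI : Fact (Nat.Prime 13) := ⟨by norm_num⟩
  obtain ⟨g, hg⟩ := exists_conj_mem (L := K0) (IsPGroup.of_card (n := 1) (by rw [card_QQ, pow_one])) (by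
    rw [hK0, natCard_MM]
    exact fac_eq (k := 1) (by norm_num) (by norm_num) (by norm_num) (by norm_num) (by norm_num) (by norm_num)
      (by norm_num))
  set K := K0.map (MulAut.conj g⁻¹).toMonoidHom with hKdef
  have hK : Nat.card ↥K = 15600 := (card_map_conj K0 g⁻¹).trans hK0
  have hQ : QQ ≤ K := fun x hx => mem_map_conj (hg x hx)
  suffices h : ∃ k, K ≤ stabilizer MM (pP k) by
    obtain ⟨k, hk⟩ := h
    have hc : Nat.card ↥(stabilizer MM (pP k)) = 15600 := by
      obtain ⟨m, hm⟩ := mem_SS.1 (pt_facts.2.2.2.1 k).1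
      have e : ∀ y, y ∈ SS ↔ ∃ g : MM, g • pP k = y := fun y => by
        rw [mem_SS, ← hm]
        exact ⟨fun ⟨a, e⟩ => ⟨a * m⁻¹, by rw [mul_smul, inv_smul_smul, e]⟩,
          fun ⟨a, e⟩ => ⟨a * m, by rw [mul_smul, e]⟩⟩
      have := card_stab (S := SS) (x := pP k) e
      rw [card_SS] at this
      omega
    exact ⟨g • pP k, smul_SS.2 (pt_facts.2.2.2.1 k).1,
      conj_stab (Subgroup.eq_of_le_of_card_ge hk (by rw [hK, hc]))⟩
  obtain ⟨hPK, -⟩ := PP_le_of hK hQ
  set r := md rW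
  have hrP : r ∈ PP := mem_PP.2 ⟨rW_mem_NQ, fun i => (pt_facts.2.2.2.1 i).2.2⟩
  have hrK : r ∈ K := hPK hrP
  -- a larger 2-group
  haveI : Fact (Nat.Prime 2) := ⟨Nat.prime_two⟩
  have hR4 : Nat.card ↥(Subgroup.zpowers (⟨r, hrK⟩ : ↥K)) = 2 ^ 2 := by
    rw [Nat.card_zpowers, Subgroup.orderOf_mk, orderOf_r]; norm_num
  obtain ⟨P2, hP2⟩ := (IsPGroup.of_card hR4).exists_le_sylow
  have hcard2 : Nat.card ↥(P2 : Subgroup ↥K) = 16 := by
    rw [P2.card_eq_multiplicity, hK, fac_eq (p := 2) (k := 4) (n := 15600) (m := 2 ^ 4) Nat.prime_two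
      (by norm_num) (by norm_num) (by norm_num) (by norm_num) (by norm_num) (by norm_num),
      Nat.prime_two.factorization_pow, Finsupp.single_eq_same]
    norm_num
  set Rs := (Subgroup.zpowers (⟨r, hrK⟩ : ↥K)).subgroupOf (P2 : Subgroup ↥K)
  have hRs : Nat.card ↥Rs = 4 := by
    rw [Nat.card_congr (Subgroup.subgroupOfEquivOfLe hP2).toEquiv, hR4]; norm_num
  haveI : Group.IsNilpotent ↥(P2 : Subgroup ↥K) := P2.2.isNilpotent
  have hlt := normalizerCondition_of_isNilpotent Rs (lt_top_iff_ne_top.2 fun e => by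
    rw [e, Subgroup.card_top, hcard2] at hRs
    omega)
  obtain ⟨x, hxN, hxR⟩ := SetLike.exists_of_lt hlt
  have hx16 : x ^ 2 ^ 4 = 1 := by
    rw [show (2 : ℕ) ^ 4 = 16 by norm_num, ← hcard2]; exact pow_card_eq_one'
  obtain ⟨k, hk1, hk2⟩ : ∃ k, x ^ 2 ^ k ∉ Rs ∧ x ^ 2 ^ (k + 1) ∈ Rs := by
    by_contra hne
    push Not at hne
    have : ∀ k, x ^ 2 ^ k ∉ Rs := fun k => by
      induction k with
      | zero => simpa using hxR
      | succ k ih => exact hne k ih
    exact this 4 (hx16 ▸ one_mem _)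
  set y := x ^ 2 ^ k
  have hyN : y ∈ Subgroup.normalizer (Rs : Set _) := Subgroup.pow_mem _ hxN _
  set z : MM := ((y : ↥K) : MM) with hzdef
  have hzK : z ∈ K := (y : ↥K).2
  have hcoe : ∀ m : ↥(P2 : Subgroup ↥K), m ∈ Rs ↔ ((m : ↥K) : MM) ∈ Subgroup.zpowers r := fun m => by
    rw [Subgroup.mem_subgroupOf, Subgroup.mem_zpowers_iff, Subgroup.mem_zpowers_iff]
    constructor
    · rintro ⟨n, hn⟩; exact ⟨n, by rw [← hn]; rfl⟩
    · rintro ⟨n, hn⟩; exact ⟨n, Subtype.ext (by rw [← hn]; rfl)⟩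
  have hz0 : z ∉ Subgroup.zpowers r := fun h => hk1 ((hcoe y).2 h)
  have hz2 : z * z ∈ Subgroup.zpowers r := by
    have := (hcoe (y ^ 2)).1 (by
      show (x ^ 2 ^ k) ^ 2 ∈ Rs
      rw [← pow_mul, ← pow_succ]; exact hk2)
    rwa [pow_two] at this
  have hzr : z * r * z⁻¹ ∈ Subgroup.zpowers r := by
    have hrm : (⟨⟨r, hrK⟩, hP2 (Subgroup.mem_zpowers _)⟩ : ↥(P2 : Subgroup ↥K)) ∈ Rs :=
      (hcoe _).2 (Subgroup.mem_zpowers _)
    exact (hcoe _).1 ((Subgroup.mem_normalizer_iff.1 hyN _).1 hrm)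
  -- it fixes one of the three points in the first suborbit
  have hfixr : ∀ m ∈ Subgroup.zpowers r, ∀ i, m • aP i = aP i := fun m hm i =>
    (Subgroup.zpowers_le.2 (show r ∈ stabilizer MM (aP i) from (pt_facts.2.2.2.2.1 i).2)) hm
  have hperm : ∀ i, ∃ j, z • aP i = aP j := fun i => by
    obtain ⟨j, hj⟩ := only_a (x := z • aP i) (smul_DS.2 (pt_facts.2.2.2.2.1 i).1) (by
      have hzr' : z⁻¹ * r * z ∈ Subgroup.zpowers r := by
        have hrm : (⟨⟨r, hrK⟩, hP2 (Subgroup.mem_zpowers _)⟩ : ↥(P2 : Subgroup ↥K)) ∈ Rs :=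
          (hcoe _).2 (Subgroup.mem_zpowers _)
        have := (hcoe _).1 ((Subgroup.mem_normalizer_iff.1 (inv_mem hyN) _).1 hrm)
        simpa using this
      have := hfixr _ hzr' i
      rwa [mul_smul, mul_smul, inv_smul_eq_iff] at this)
    exact ⟨j, hj.symm⟩
  choose σ hσ using hperm
  have hσ2 : ∀ i, σ (σ i) = i := fun i => pt_facts.2.2.1 (by
    rw [← hσ, ← hσ, ← mul_smul, hfixr _ hz2])
  obtain ⟨k, hk⟩ : ∃ k, σ k = k := by revert hσ2; clear hσ; revert σ; decide
  -- move it to the first one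
  obtain ⟨-, -, -, -, -, -, ⟨n01, n12, n20⟩, ht, hr65⟩ := pt_facts
  set nn := md nW ^ (k : ℕ)
  have hnk : nn • aP 0 = aP k := by
    revert hk; fin_cases k <;> intro _
    · simp [nn]
    · simp [nn, n01]
    · show (md nW ^ 2) • aP 0 = aP 2
      rw [pow_two, mul_smul, n01, n12]
  have hnr : Commute nn r := (show Commute (md nW) r from rel_facts.2.2.2.1).pow_left _
  set tt := md tW
  set pre := nn * tt
  have hpre : pre * md rW0 = r * pre := by
    rw [mul_assoc, rel_facts.2.2.2.2, ← mul_assoc, hnr.eq, mul_assoc]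
  set w := pre⁻¹ * z * pre
  have hmemr : ∀ m ∈ Subgroup.zpowers r, pre⁻¹ * m * pre ∈ Subgroup.zpowers (md rW0) := by
    intro m hm
    obtain ⟨n, rfl⟩ := Subgroup.mem_zpowers_iff.1 hm
    refine ⟨n, ?_⟩
    have e : md rW0 = pre⁻¹ * r * pre := by rw [mul_assoc, ← hpre, inv_mul_cancel_left]
    show md rW0 ^ n = _
    rw [e, show pre⁻¹ * r * pre = MulAut.conj pre⁻¹ r by simp [MulAut.conj_apply], ← map_zpow]
    simp [MulAut.conj_apply]
  have w65 : w • d0 = d0 := by
    rw [mul_smul, mul_smul, mul_smul, ht, hnk, hσ, hk, inv_smul_eq_iff, mul_smul, ht, hnk]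
  have wn : w * md rW0 * w⁻¹ ∈ Subgroup.zpowers (md rW0) := by
    have e : w * md rW0 * w⁻¹ = pre⁻¹ * (z * r * z⁻¹) * pre := by
      have er : md rW0 = pre⁻¹ * r * pre := by rw [mul_assoc, ← hpre, inv_mul_cancel_left]
      rw [er]; simp only [w]; group
    rw [e]; exact hmemr _ hzr
  have w2 : w * w ∈ Subgroup.zpowers (md rW0) := by
    have e : w * w = pre⁻¹ * (z * z) * pre := by simp only [w]; group
    rw [e]; exact hmemr _ hz2
  obtain ⟨e, he, hsl, hwe⟩ := normalizer_list w65 wn w2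
  have hcov := z_cover
  simp only [zCover, Bool.and_eq_true, List.all_eq_true, List.mem_range, List.any_eq_true] at hcov
  obtain ⟨d, hd, ⟨d1, d2⟩, d3⟩ := hcov.2 e he k.val k.2
  obtain ⟨i, hi, rfl⟩ := List.mem_iff_getElem.1 hd
  have hi96 : i < 96 := by rw [Nat.eq_of_beq_eq_true hcov.1] at hi; exact hi
  have hz := z_all hi96
  simp only [zOK, Bool.and_eq_true, List.all_eq_true, ltB_iff, List.getD_eq_getElem _ [] hi,
    Nat.eq_of_beq_eq_true d1, Nat.eq_of_beq_eq_true d2, Nat.eq_of_beq_eq_true d3, Prod.mk.eta] at hz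
  obtain ⟨⟨hsame, hlow⟩, hcase⟩ := hz
  have hslz : SL (zW.getD i []) := fun g hg => by
    have h := hsame
    simp only [sameW, Bool.and_eq_true, List.all_eq_true, ltB_iff] at h
    exact ⟨hlow g hg, h.1.1 g (List.mem_append_left _ hg)⟩
  obtain ⟨sq, sr, -, sn, st, -⟩ := rel_facts.1
  have hze : md (zW.getD i []) = z := by
    have h := sameW_spec (hslz.append ((sn.rep _).append st)) (((sn.rep _).append st).append hsl) hsame
    rw [md_append hslz ((sn.rep _).append st), md_append ((sn.rep _).append st) hsl,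
      md_append (sn.rep _) st, md_rep sn, ← hwe] at h
    change md (zW.getD i []) * pre = pre * (pre⁻¹ * z * pre) at h
    rw [mul_assoc pre⁻¹, mul_inv_cancel_left] at h
    exact mul_right_cancel h
  have hpv : ∀ j : Fin 3, (pP j : ℕ) = pAt j := fun j => by
    rw [pP, dif_pos]
    have hd : ∀ i : Fin 3, pAt i < 4060 := by decide +kernel
    exact hd j
  have toP : ∀ {w : List ℕ} (a b : ℕ) (ha : a < 3) (hb : b < 3), SL w → Nat.beq (pWord w (pAt a)) (pAt b) = true →
      md w • pP ⟨a, ha⟩ = pP ⟨b, hb⟩ := fun a b ha hb hw h => Fin.ext (by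
    rw [md_smul hw, hpv, hpv]; exact Nat.eq_of_beq_eq_true h)
  set d := zInfo[i] with hddef
  split at hcase <;> simp only [Bool.and_eq_true, Nat.blt_eq, Bool.not_eq_true'] at hcase
  · exfalso
    have h := sameW_spec hslz (sr.rep _) hcase.2
    rw [hze, md_rep sr] at h
    exact hz0 (h ▸ Subgroup.pow_mem _ (Subgroup.mem_zpowers _) _)
  · obtain ⟨h4, h5⟩ := hcase
    have hfix := toP _ _ h4 h4 hslz h5
    rw [hze] at hfix
    rcases dichotomy hK hQ ⟨_, h4⟩ with h | h
    · exact ⟨_, h⟩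
    · exfalso
      have hzP : z ∈ PP := h ▸ ⟨hzK, hfix⟩
      set T := Subgroup.zpowers r ⊔ Subgroup.zpowers z
      have hTP : T ≤ PP := sup_le (Subgroup.zpowers_le.2 hrP) (Subgroup.zpowers_le.2 hzP)
      have h2T : IsPGroup 2 ↥T := by
        have hmap : T ≤ (P2 : Subgroup ↥K).map K.subtype :=
          sup_le (Subgroup.zpowers_le.2 ⟨⟨r, hrK⟩, hP2 (Subgroup.mem_zpowers _), rfl⟩)
            (Subgroup.zpowers_le.2 ⟨(y : ↥K), y.2, rfl⟩)
        exact (P2.2.map K.subtype).to_le hmap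
      obtain ⟨j, hj⟩ := IsPGroup.iff_card.1 h2T
      have hdv := Subgroup.card_dvd_of_le hTP
      rw [hj, card_PP.1] at hdv
      have hj2 : j ≤ 2 := by
        by_contra hc
        have := (pow_dvd_pow 2 (show 3 ≤ j by omega)).trans hdv
        norm_num at this
      have hTe : Subgroup.zpowers r = T := Subgroup.eq_of_le_of_card_ge le_sup_left (by
        rw [hj, Nat.card_zpowers, orderOf_r]
        exact (Nat.pow_le_pow_right two_pos hj2).trans (by norm_num))
      exact hz0 (hTe ▸ Subgroup.mem_sup_right (Subgroup.mem_zpowers _))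
  · obtain ⟨⟨⟨h4, h5⟩, hne⟩, hmap⟩ := hcase
    have htri : ∀ l : List ℕ, SL (triWord qW rW (zW.getD i []) l) ∧ md (triWord qW rW (zW.getD i []) l) ∈ K := by
      intro l
      induction l with
      | nil => exact ⟨SL.nil, by rw [show triWord qW rW (zW.getD i []) [] = [] from rfl, md_nil]; exact one_mem _⟩
      | cons a l ih =>
        have hA : SL ([qW, rW, zW.getD i []].getD a []) ∧ md ([qW, rW, zW.getD i []].getD a []) ∈ K := by
          rcases a with _ | _ | _ | a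
          · exact ⟨sq, hQ (Subgroup.mem_zpowers _)⟩
          · exact ⟨sr, hrK⟩
          · exact ⟨hslz, show md (zW.getD i []) ∈ K from hze.symm ▸ hzK⟩
          · exact ⟨SL.nil, show md [] ∈ K from md_nil.symm ▸ one_mem _⟩
        have e : triWord qW rW (zW.getD i []) (a :: l) =
            [qW, rW, zW.getD i []].getD a [] ++ triWord qW rW (zW.getD i []) l := List.flatMap_cons
        rw [e, md_append hA.1 ih.1]
        exact ⟨hA.1.append ih.1, mul_mem hA.2 ih.2⟩
    obtain ⟨ht1, ht2⟩ := htri (zMap.getD i [])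
    refine no_map hK hQ (i := ⟨_, h4⟩) (j := ⟨_, h5⟩) (fun e => ?_) ht2 (toP _ _ h4 h5 ht1 hmap)
    have e' := congrArg Fin.val e
    simp only at e'
    rw [e', Nat.beq_refl] at hne
    exact Bool.noConfusion hne

end CfsgLib.RuRec
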